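import Cfsg.Agent.Lib.Sporadic.LyCent.AltEleven
import Mathlib.GroupTheory.Perm.Cycle.Type
import Mathlib.GroupTheory.SpecificGroups.Alternating
import Mathlib.Logic.Equiv.Fin.Basic

/-!
# The centraliser of a three-cycle in the alternating group of degree eleven
-/

set_option autoImplicit false
set_option maxRecDepth 100000

namespace CfsgLib.Sporadic.CosetCert.LyThree

open Equiv LyCent

/-- The three-cycle. -/
def c0 : alternatingGroup (Fin 11) := cyc 0

/-- The centraliser. -/
def C11 : Subgroup (alternatingGroup (Fin 11)) := Subgroup.centralizer {c0}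

theorem c0_three : (c0 : Perm (Fin 11)).IsThreeCycle :=
  card_support_eq_three_iff.1 (by decide +kernel)

theorem c0_ne : c0 ≠ 1 := by decide +kernel

theorem card_C11 : Nat.card C11 = 60480 := by
  classical
  have hcl : Nat.card {g : alternatingGroup (Fin 11) // IsConj c0 g} = 330 := by
    have e : Nat.card {g : alternatingGroup (Fin 11) // IsConj c0 g} =
        Nat.card {g : Perm (Fin 11) // g.cycleType = {3}} := by
      refine Nat.card_eq_of_bijective (fun g => ⟨(g.1 : Perm (Fin 11)), ?_⟩) ⟨?_, ?_⟩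
      · obtain ⟨c, hc⟩ := isConj_iff.1 g.2
        rw [← hc]
        simp [Perm.cycleType_conj]
        exact c0_three
      · intro g g' e
        exact Subtype.ext (Subtype.ext (congrArg (fun v : {g : Perm (Fin 11) // g.cycleType = {3}} => v.1) e))
      · rintro ⟨g, hg⟩
        have hg' : g.IsThreeCycle := hg
        exact ⟨⟨⟨g, hg'.mem_alternatingGroup⟩,
          alternatingGroup.isThreeCycle_isConj (by simp) c0_three hg'⟩, rfl⟩
    rw [e, Nat.card_eq_fintype_card, Fintype.card_subtype, Equiv.Perm.card_of_cycleType]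
    rfl
  have h : Nat.card {g : alternatingGroup (Fin 11) // IsConj c0 g} = C11.index := by
    rw [Subgroup.index]
    refine (Nat.card_eq_of_bijective (fun q : alternatingGroup (Fin 11) ⧸ C11 =>
      (⟨Quotient.liftOn' q (fun c => c * c0 * c⁻¹) ?_, ?_⟩ : {g // IsConj c0 g})) ⟨?_, ?_⟩).symm
    · intro a b hab
      rw [QuotientGroup.leftRel_apply] at hab
      have hh := Subgroup.mem_centralizer_singleton_iff.1 hab
      calc a * c0 * a⁻¹ = a * (c0 * (a⁻¹ * b)) * b⁻¹ := by group
        _ = a * (a⁻¹ * b * c0) * b⁻¹ := by rw [hh]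
        _ = b * c0 * b⁻¹ := by group
    · induction q using QuotientGroup.induction_on with
      | _ c => exact isConj_iff.2 ⟨c, rfl⟩
    · intro q r e
      induction q using QuotientGroup.induction_on with
      | _ a =>
        induction r using QuotientGroup.induction_on with
        | _ b =>
          have e' : a * c0 * a⁻¹ = b * c0 * b⁻¹ := congrArg Subtype.val e
          refine QuotientGroup.eq.2 (Subgroup.mem_centralizer_singleton_iff.2 ?_)
          calc a⁻¹ * b * c0 = a⁻¹ * (b * c0 * b⁻¹) * b := by group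
            _ = c0 * (a⁻¹ * b) := by rw [← e']; group
    · rintro ⟨g, hg⟩
      obtain ⟨c, hc⟩ := isConj_iff.1 hg
      exact ⟨QuotientGroup.mk c, Subtype.ext hc⟩
  have h1 := C11.index_mul_card
  rw [← h, hcl, card_alt11] at h1
  omega

/-- The points: three and eight. -/
def ι : Fin 3 ⊕ Fin 8 ≃ Fin 11 := finSumFinEquiv

/-- The embedding of the alternating group on the other eight points. -/
def emb : alternatingGroup (Fin 8) →* alternatingGroup (Fin 11) :=
  MonoidHom.codRestrict
    ((ι.permCongrHom.toMonoidHom.comp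
      ((Equiv.Perm.sumCongrHom (Fin 3) (Fin 8)).comp (MonoidHom.inr _ _))).comp (alternatingGroup (Fin 8)).subtype)
    (alternatingGroup (Fin 11)) fun σ => by
      rw [Perm.mem_alternatingGroup]
      show Perm.sign (ι.permCongr (Equiv.sumCongr 1 (σ : Perm (Fin 8)))) = 1
      rw [Perm.sign_permCongr, Perm.sign_sumCongr, map_one, one_mul]
      exact Perm.mem_alternatingGroup.1 σ.2

theorem emb_fix (σ : alternatingGroup (Fin 8)) (i : Fin 3) :
    (emb σ : Perm (Fin 11)) (ι (Sum.inl i)) = ι (Sum.inl i) := by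
  show ι.permCongr (Equiv.sumCongr 1 (σ : Perm (Fin 8))) _ = _
  simp [Equiv.permCongr_apply]

theorem emb_move (σ : alternatingGroup (Fin 8)) (j : Fin 8) :
    (emb σ : Perm (Fin 11)) (ι (Sum.inr j)) = ι (Sum.inr ((σ : Perm (Fin 8)) j)) := by
  show ι.permCongr (Equiv.sumCongr 1 (σ : Perm (Fin 8))) _ = _
  simp [Equiv.permCongr_apply]

theorem emb_injective : Function.Injective emb := fun σ τ e => Subtype.ext <| Equiv.ext fun j => by
  have h := emb_move σ j
  rw [e, emb_move τ j] at h
  exact (Sum.inr.inj (ι.injective h)).symm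

theorem c0_facts : (∀ j : Fin 8, (c0 : Perm (Fin 11)) (ι (Sum.inr j)) = ι (Sum.inr j)) ∧
    (∀ i : Fin 3, ∃ i' : Fin 3, (c0 : Perm (Fin 11)) (ι (Sum.inl i)) = ι (Sum.inl i')) ∧
    c0 ^ 3 = 1 ∧ (c0 : Perm (Fin 11)) 0 ≠ 0 ∧ ((c0 * c0 : alternatingGroup (Fin 11)) : Perm (Fin 11)) 0 ≠ 0 ∧
    (ι (Sum.inl (0 : Fin 3)) : Fin 11) = 0 := by decide +kernel

theorem emb_comm (σ : alternatingGroup (Fin 8)) : emb σ ∈ C11 := by
  refine Subgroup.mem_centralizer_singleton_iff.2 (Subtype.ext (Equiv.ext fun x => ?_))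
  obtain ⟨s, rfl⟩ := ι.surjective x
  show (emb σ : Perm (Fin 11)) ((c0 : Perm (Fin 11)) _) = (c0 : Perm (Fin 11)) ((emb σ : Perm (Fin 11)) _)
  rcases s with i | j
  · obtain ⟨i', hi'⟩ := c0_facts.2.1 i
    rw [hi', emb_fix, emb_fix, hi']
  · rw [c0_facts.1, emb_move, c0_facts.1]

/-- A subgroup of the centraliser containing the three-cycle and normalised by the centraliser. -/
theorem normal_cases (L : Subgroup (alternatingGroup (Fin 11))) (hL : L ≤ C11) (hc : c0 ∈ L)
    (hn : ∀ u ∈ C11, ∀ l ∈ L, u * l * u⁻¹ ∈ L) : L = C11 ∨ ∀ l ∈ L, l ∈ Subgroup.zpowers c0 := by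
  classical
  have : Fact (Nat.Prime 3) := ⟨Nat.prime_three⟩
  have : IsSimpleGroup (alternatingGroup (Fin 8)) := alternatingGroup.isSimpleGroup (by simp)
  have hN : (L.comap emb).Normal := ⟨fun s hs g => by
    rw [Subgroup.mem_comap, map_mul, map_mul, map_inv]
    exact hn _ (emb_comm g) _ hs⟩
  have hoc : orderOf c0 = 3 := orderOf_eq_prime c0_facts.2.2.1 c0_ne
  let Φ : Subgroup.zpowers c0 × alternatingGroup (Fin 8) → C11 := fun p =>
    ⟨(p.1 : alternatingGroup (Fin 11)) * emb p.2, mul_mem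
      (Subgroup.zpowers_le.2 (Subgroup.mem_centralizer_singleton_iff.2 rfl) p.1.2) (emb_comm _)⟩
  have hinj : Function.Injective Φ := by
    rintro ⟨⟨a, ha⟩, σ⟩ ⟨⟨b, hb⟩, τ⟩ e
    have e' : a * emb σ = b * emb τ := congrArg Subtype.val e
    have e2 : b⁻¹ * a = emb (τ * σ⁻¹) := by
      rw [map_mul, map_inv, eq_mul_inv_iff_mul_eq, mul_assoc, e']; group
    have h0 : ((b⁻¹ * a : alternatingGroup (Fin 11)) : Perm (Fin 11)) 0 = 0 := by
      rw [e2, ← c0_facts.2.2.2.2.2, emb_fix]
    obtain ⟨n, hn'⟩ := Subgroup.mem_zpowers_iff.1 (mul_mem (inv_mem hb) ha)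
    have hmod : c0 ^ (n % 3) = b⁻¹ * a := by
      rw [← hn']
      exact (zpow_mod_orderOf c0 n ▸ by rw [hoc]; rfl : c0 ^ (n % 3) = c0 ^ n)
    have : n % 3 = 0 ∨ n % 3 = 1 ∨ n % 3 = 2 := by omega
    rcases this with h | h | h
    · rw [h, zpow_zero] at hmod
      have hab : a = b := (inv_mul_eq_one.1 hmod.symm).symm
      subst hab
      obtain rfl : σ = τ := emb_injective (mul_left_cancel e')
      rfl
    · rw [h, zpow_one] at hmod
      rw [← hmod] at h0
      exact absurd h0 c0_facts.2.2.2.1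
    · rw [h, zpow_two] at hmod
      rw [← hmod] at h0
      exact absurd h0 c0_facts.2.2.2.2.1
  have hsurj : Function.Surjective Φ := (hinj.bijective_of_nat_card_le (le_of_eq (by
    rw [card_C11, Nat.card_prod, Nat.card_zpowers, hoc, nat_card_alternatingGroup, Nat.card_eq_fintype_card,
      Fintype.card_fin]
    decide))).2
  rcases hN.eq_bot_or_eq_top with h | h
  · refine Or.inr fun l hl => ?_
    obtain ⟨⟨⟨a, ha⟩, σ⟩, e⟩ := hsurj ⟨l, hL hl⟩
    have e' : a * emb σ = l := congrArg Subtype.val e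
    have hs : σ ∈ L.comap emb := by
      rw [Subgroup.mem_comap, show emb σ = a⁻¹ * l by rw [← e']; group]
      exact mul_mem (inv_mem (Subgroup.zpowers_le.2 hc ha)) hl
    rw [h, Subgroup.mem_bot] at hs
    rw [hs, map_one, mul_one] at e'
    exact e' ▸ ha
  · refine Or.inl (le_antisymm hL fun u hu => ?_)
    obtain ⟨⟨⟨a, ha⟩, σ⟩, e⟩ := hsurj ⟨u, hu⟩
    rw [show u = a * emb σ from (congrArg Subtype.val e).symm]
    exact mul_mem (Subgroup.zpowers_le.2 hc ha) (show σ ∈ L.comap emb by rw [h]; exact Subgroup.mem_top _)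

end CfsgLib.Sporadic.CosetCert.LyThree
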