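import Cfsg.Agent.Lib.Sporadic.LyThree.Checks.Basic
import Cfsg.Agent.Lib.Sporadic.LyThree.Checks.Incr
import Cfsg.Agent.Lib.Sporadic.LyThree.Checks.Keys0
import Cfsg.Agent.Lib.Sporadic.LyThree.Checks.Keys1
import Cfsg.Agent.Lib.Sporadic.LyThree.Checks.Keys2
import Cfsg.Agent.Lib.Sporadic.LyThree.Checks.Keys3
import Cfsg.Agent.Lib.Sporadic.LyCent.InvCount
import Cfsg.Agent.Lib.Sporadic.LyCent.StabSound

/-!
# An element of order three with many conjugates in the subgroup
-/

set_option autoImplicit false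
set_option maxRecDepth 100000

namespace CfsgLib.Sporadic.CosetCert.LyThree

open LyIndex LyG2Five LyCent PackedMatrix
open scoped Matrix

attribute [local instance] factPrimeFive

attribute [local irreducible] PackedMatrix.mul PackedMatrix.ok vimg wordM matAt mulIs keyAt pairAt get16 red dig
  numW numX wTab wiTab xTab wpTab xwTab vKey

/-- The element of order three. -/
noncomputable def x0 : E := wordE wX

theorem stands_x0 : Stands (wordM wX) x0 := stands_word wX

theorem key_incr {j : ℕ} (hj : j < 12287) : keyAt j < keyAt (j + 1) := by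
  have key : ∀ q t, t < 1024 → q * 1024 + t = j →
      ((Nat.ble 12287 (q * 1024 + t) || Nat.blt (keyAt (q * 1024 + t)) (keyAt (q * 1024 + t + 1))) = true) →
      keyAt j < keyAt (j + 1) := by
    intro q t _ e h
    rw [e, Bool.or_eq_true] at h
    rcases h with h | h
    · exact absurd (Nat.le_of_ble_eq_true h) (by omega)
    · exact Nat.le_of_ble_eq_true h
  have hq : j / 1024 < 12 := by omega
  have ht : j % 1024 < 1024 := Nat.mod_lt _ (by norm_num)
  have he : j / 1024 * 1024 + j % 1024 = j := Nat.div_add_mod' j 1024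
  generalize j / 1024 = q at hq he
  generalize j % 1024 = t at ht he
  refine key q t ht he ?_
  interval_cases q
  exacts [key_incr0 t ht, key_incr1 t ht, key_incr2 t ht, key_incr3 t ht, key_incr4 t ht, key_incr5 t ht,
    key_incr6 t ht, key_incr7 t ht, key_incr8 t ht, key_incr9 t ht, key_incr10 t ht, key_incr11 t ht]

theorem key_ok {j : ℕ} (hj : j < 12288) : keyOne j = true := by
  have hq : j / 1024 < 12 := by omega
  have ht : j % 1024 < 1024 := Nat.mod_lt _ (by norm_num)
  rw [← Nat.div_add_mod' j 1024]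
  generalize j / 1024 = q at hq
  generalize j % 1024 = t at ht
  interval_cases q
  exacts [key_chk0 t ht, key_chk1 t ht, key_chk2 t ht, key_chk3 t ht, key_chk4 t ht, key_chk5 t ht,
    key_chk6 t ht, key_chk7 t ht, key_chk8 t ht, key_chk9 t ht, key_chk10 t ht, key_chk11 t ht]

theorem key_inj : ∀ i < 12288, ∀ j < 12288, keyAt i = keyAt j → i = j := by
  have mono : ∀ i j, i < j → j < 12288 → keyAt i < keyAt j := by
    intro i j hij
    induction hij with
    | refl => exact fun h => key_incr (by omega)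
    | step h ih => exact fun hj => (ih (by omega)).trans (key_incr (by omega))
  intro i hi j hj e
  rcases lt_trichotomy i j with h | h | h
  · exact absurd e (mono i j h hj).ne
  · exact h
  · exact absurd e.symm (mono j i h hi).ne

theorem w_spec : ∀ j < numW, ∃ w : E, Stands (matAt wTab j) w ∧ Stands (matAt wiTab j) w⁻¹ := by
  intro j
  induction j using Nat.strong_induction_on with
  | _ j ih =>
    intro hj
    have h := w_chk j hj
    simp only [wOne, Bool.and_eq_true, Bool.or_eq_true] at h
    obtain ⟨⟨h1, hok⟩, hinv⟩ := h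
    have hw : ∃ w : E, Stands (matAt wTab j) w := by
      rcases h1 with ⟨-, e⟩ | ⟨⟨hp, hq⟩, hm⟩
      · exact ⟨el j, eqList_spec _ _ e ▸ ⟨ok_lett14 j, mE_el j⟩⟩
      · have hp' := Nat.le_of_ble_eq_true hp
        have hq' := Nat.le_of_ble_eq_true hq
        obtain ⟨a, ha, -⟩ := ih _ hp' (lt_trans hp' hj)
        obtain ⟨b, hb, -⟩ := ih _ hq' (lt_trans hq' hj)
        exact ⟨a * b, mulIs_spec ha hb hm⟩
    obtain ⟨w, hw⟩ := hw
    refine ⟨w, hw, ?_⟩
    have := quot_spec' hok hw stands_one hinv
    rwa [mul_one] at this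

theorem x_spec {a : ℕ} (ha : a < numX) : ∃ w : E, Stands (matAt xTab a) (w⁻¹ * (x0 * w)) := by
  have h := x_chk a ha
  simp only [xOne, forceList_eq, Bool.and_eq_true] at h
  obtain ⟨⟨hok, hs⟩, he⟩ := h
  obtain ⟨w, hw, -⟩ := w_spec _ (Nat.le_of_ble_eq_true hs)
  refine ⟨w, quot_spec' hok hw (C := PackedMatrix.mul 5 14 (wordM wX) (matAt wTab (get16 0 xwTab a))) ?_
    (by unfold mulIs; exact he)⟩
  exact ⟨ok_mul (by norm_num) (by norm_num) stands_x0.1 _, by
    rw [map_mul, stands_x0.2, hw.2]; exact (dec_mul (by norm_num) (by norm_num) stands_x0.1 hw.1).symm⟩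

theorem key_spec {j : ℕ} (hj : j < 12288) : ∃ c : E, vec (keyAt j) = vec vKey ᵥ* mE (c * x0 * c⁻¹) := by
  have h := key_ok hj
  simp only [keyOne, Bool.and_eq_true] at h
  obtain ⟨⟨hb, ha⟩, hk⟩ := h
  obtain ⟨w, hw, hwi⟩ := w_spec _ (Nat.le_of_ble_eq_true hb)
  obtain ⟨u, hu⟩ := x_spec (Nat.le_of_ble_eq_true ha)
  have hv : red 5 14 vKey = vKey := by
    have hx := x_test
    simp only [xTest, Bool.and_eq_true] at hx
    exact Nat.eq_of_beq_eq_true hx.2
  refine ⟨w * u⁻¹, ?_⟩
  generalize matAt wTab (Nat.mod (pairAt j) 512) = A at hw hk ⊢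
  generalize matAt wiTab (Nat.mod (pairAt j) 512) = A' at hwi hk ⊢
  generalize matAt xTab (Nat.div (pairAt j) 512) = B at hu hk ⊢
  have e := Nat.eq_of_beq_eq_true hk
  generalize keyAt j = k at e ⊢
  subst e
  rw [vimg_spec (red_vimg _ _) hwi.1, vimg_spec (red_vimg _ _) hu.1, vimg_spec hv hw.1]
  rw [← hw.2, ← hu.2, ← hwi.2, Matrix.vecMul_vecMul, Matrix.vecMul_vecMul]
  refine congrArg _ ?_
  rw [← map_mul, ← map_mul]
  exact congrArg _ (by group)

theorem key_red {j : ℕ} (hj : j < 12288) : red 5 14 (keyAt j) = keyAt j := by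
  have h := key_ok hj
  simp only [keyOne, Bool.and_eq_true] at h
  rw [← Nat.eq_of_beq_eq_true h.2]
  exact red_vimg _ _

/-- The centraliser is small. -/
theorem card_centralizer_le : Nat.card (Subgroup.centralizer ({x0} : Set E)) ≤ 476806 := by
  choose c hc using fun j (hj : j < 12288) => key_spec hj
  have h := centralizer_small x0 12288 (fun j => if hj : j < 12288 then c j hj else 1) fun i hi j hj e => by
    simp only [dif_pos hi, dif_pos hj] at e
    refine key_inj i hi j hj (eq_of_vec (key_red hi) (key_red hj) ?_)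
    rw [hc i hi, hc j hj, e]
  rw [card_E] at h
  omega

end CfsgLib.Sporadic.CosetCert.LyThree
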