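import Cfsg.Agent.Lib.Sporadic.LyCent.CoverDefs
import Cfsg.Agent.Lib.Sporadic.LyIndex.WideOrbit
import Cfsg.Agent.Lib.Sporadic.LyThree.Data.Words
import Cfsg.Agent.Lib.Sporadic.LyThree.Data.Node0
import Cfsg.Agent.Lib.Sporadic.LyThree.Data.Node1
import Cfsg.Agent.Lib.Sporadic.LyThree.Data.Node2
import Cfsg.Agent.Lib.Sporadic.LyThree.Data.Node3
import Cfsg.Agent.Lib.Sporadic.LyThree.Data.Node4
import Cfsg.Agent.Lib.Sporadic.LyThree.Data.Node5
import Cfsg.Agent.Lib.Sporadic.LyThree.Data.Orbit

/-!
# Tests in degree 111 for elements commuting with an element of order three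
-/

set_option autoImplicit false
set_option maxRecDepth 100000

namespace CfsgLib.Sporadic.CosetCert.LyThree

open LyG2Five LyCent WideMatrix
open LyIndex.Wide (img unitRow)

/-- The matrix of an atom. -/
def atomM (i : ℕ) : List ℕ :=
  if i < 9 then mA i else if i < 18 then mAi (i - 9) else lett111 (i - 18)

/-- The matrices of an atom word. -/
def atomsM (w : List ℕ) : List (List ℕ) := w.map atomM

/-- The atom words of the two-elements, and the element of order three. -/
def gAll : List (List ℕ) := gWords ++ [[0]]

/-- The matrix of a two-element, or of the element of order three. -/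
def nodeM (k : ℕ) : List ℕ :=
  [nG0, nG1, nG2, nG3, nG4, nG5, nG6, nG7, nG8, nG9, nG10, nG11, mA 0].getD k idRows

/-- The matrices of a word in the two-elements. -/
def nodesM (w : List ℕ) : List (List ℕ) := w.map nodeM

/-- Two products agree. -/
noncomputable def same (L L' : List (List ℕ)) : Bool :=
  Nat.beq (forced (prodW 111 L) (oneW 111)) (forced (prodW 111 L') (oneW 111))

/-- A two-element is the listed product, commutes with the element of order three and has eighth power one. -/
noncomputable def gOne (k : ℕ) : Bool :=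
  okRows 111 (nodeM k) && same (atomsM (gAll.getD k [])) [nodeM k] &&
    same [nodeM k, mA 0] [mA 0, nodeM k] && (Nat.beq k 12 || same (List.replicate 8 (nodeM k)) [])

/-- The tests of the other elements. -/
noncomputable def smallTest : Bool :=
  same (atomsM xWord) (atomsM xConj) &&
    okRows 111 nU && same (atomsM uWord) [nU] && same [nU, mA 0] [mA 0, nU] && same [nU, nU] [mT] &&
    okRows 111 nA7 && same (atomsM a7Word) [nA7] && same [nA7, mA 0] [mA 0, nA7] && same [nA7, mT] [mT, nA7] &&
    same (List.replicate 7 nA7) [] && !same [nA7] []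

/-- The tests of the products. -/
noncomputable def prodTest : Bool :=
  okRows 111 nS0 && same (nodesM s0Word) [nS0] &&
    okRows 111 nS1 && same (nodesM s1Word) [nS1] &&
    okRows 111 nSW && same (nodesM swWord) [nSW] && same [nSW, nSW, nSW] [] &&
    !same [nSW] [] && !same [nSW] [mA 0] && !same [nSW] [mA 0, mA 0] &&
    okRows 111 nY && same (nodesM yWord) [nY] && same (List.replicate 11 nY) [] && !same [nY] [] &&
    (s0Word ++ s1Word ++ swWord ++ yWord).all (fun k => Nat.ble k 12)

/-- The generators of the orbit. -/
def orbGens : List (List ℕ) := [mA 0, nSW, nS0, nS1]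

/-- A point of the orbit. -/
def otPt (t : ℕ) : ℕ := (otPts.getD (Nat.div t 16) []).getD (Nat.mod t 16) 0

/-- The parent of a point. -/
def otPa (t : ℕ) : ℕ × ℕ := (otPar.getD (Nat.div t 16) []).getD (Nat.mod t 16) (0, 0)

/-- The images of a point. -/
def otSu (t : ℕ) : List ℕ := (otSucc.getD (Nat.div t 16) []).getD (Nat.mod t 16) []

/-- A point of the closed orbit. -/
noncomputable def otOne (t : ℕ) : Bool :=
  (Nat.beq t 0 || (Nat.blt (otPa t).1 t && Nat.blt (otPa t).2 4 &&
      Nat.beq (img 111 (otPt (otPa t).1) (orbGens.getD (otPa t).2 [])) (otPt t))) &&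
    ((List.range 4).all fun s => Nat.blt ((otSu t).getD s 243) 243 &&
      Nat.beq (img 111 (otPt t) (orbGens.getD s [])) (otPt ((otSu t).getD s 243))) &&
    (List.range t).all fun k => !Nat.beq (otPt k) (otPt t)

/-- The root of the orbit is fixed by the first two generators. -/
noncomputable def rootTest : Bool :=
  okRows 111 gRoot && Nat.beq (img 111 (unitRow 0) gRoot) (otPt 0) &&
    Nat.beq (img 111 (otPt 0) (mA 0)) (otPt 0) && Nat.beq (img 111 (otPt 0) nSW) (otPt 0)

end CfsgLib.Sporadic.CosetCert.LyThree
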