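import Cfsg.Agent.Lib.Sporadic.LyCent.StabDefs
import Cfsg.Agent.Lib.Sporadic.LyThree.Data.W
import Cfsg.Agent.Lib.Sporadic.LyThree.Data.Wi
import Cfsg.Agent.Lib.Sporadic.LyThree.Data.X
import Cfsg.Agent.Lib.Sporadic.LyThree.Data.Cover
import Cfsg.Agent.Lib.Sporadic.LyThree.Data.Small
import Cfsg.Agent.Lib.Sporadic.LyThree.Data.Keys0
import Cfsg.Agent.Lib.Sporadic.LyThree.Data.Keys1
import Cfsg.Agent.Lib.Sporadic.LyThree.Data.Keys2
import Cfsg.Agent.Lib.Sporadic.LyThree.Data.Keys3
import Cfsg.Agent.Lib.Sporadic.LyThree.Data.Keys4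
import Cfsg.Agent.Lib.Sporadic.LyThree.Data.Keys5
import Cfsg.Agent.Lib.Sporadic.LyThree.Data.Keys6
import Cfsg.Agent.Lib.Sporadic.LyThree.Data.Keys7
import Cfsg.Agent.Lib.Sporadic.LyThree.Data.Keys8
import Cfsg.Agent.Lib.Sporadic.LyThree.Data.Keys9
import Cfsg.Agent.Lib.Sporadic.LyThree.Data.Keys10
import Cfsg.Agent.Lib.Sporadic.LyThree.Data.Keys11

/-!
# Tests in degree fourteen for an element of order three
-/

set_option autoImplicit false
set_option maxRecDepth 100000

namespace CfsgLib.Sporadic.CosetCert.LyThree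

open LyIndex LyG2Five LyCent PackedMatrix

/-- The word of the element of order three. -/
def wX : List ℕ := [3, 1, 2, 0]

/-- An entry of a table in chunks of 32 and 1024. -/
def get3 (T : List (List (List ℕ))) (j : ℕ) : ℕ :=
  ((T.getD (Nat.div j 1024) []).getD (Nat.div (Nat.mod j 1024) 32) []).getD (Nat.mod j 32) 0

/-- A key. -/
def keyAt (j : ℕ) : ℕ :=
  get3 [keys0, keys1, keys2, keys3, keys4, keys5, keys6, keys7, keys8, keys9, keys10, keys11] j

/-- The pair of a key. -/
def pairAt (j : ℕ) : ℕ :=
  get3 [pairs0, pairs1, pairs2, pairs3, pairs4, pairs5, pairs6, pairs7, pairs8, pairs9, pairs10, pairs11] j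

/-- A conjugating element and its inverse are in the group. -/
noncomputable def wOne (j : ℕ) : Bool :=
  ((Nat.blt j 8 && eqList (lett14 j) (matAt wTab j)) ||
      (Nat.blt (get16 (0, 0) wpTab j).1 j && Nat.blt (get16 (0, 0) wpTab j).2 j &&
        mulIs (matAt wTab (get16 (0, 0) wpTab j).1) (matAt wTab (get16 (0, 0) wpTab j).2) (matAt wTab j))) &&
    ok 5 14 (matAt wiTab j) && mulIs (matAt wTab j) (matAt wiTab j) one14

/-- A listed conjugate. -/
noncomputable def xOne (a : ℕ) : Bool :=
  ok 5 14 (matAt xTab a) && Nat.blt (get16 0 xwTab a) numW &&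
    forceList (wordM wX) (fun xm => eqList (PackedMatrix.mul 5 14 (matAt wTab (get16 0 xwTab a)) (matAt xTab a))
      (PackedMatrix.mul 5 14 xm (matAt wTab (get16 0 xwTab a))))

/-- A key is the image of the row under a conjugate. -/
noncomputable def keyOne (j : ℕ) : Bool :=
  Nat.blt (Nat.mod (pairAt j) 512) numW && Nat.blt (Nat.div (pairAt j) 512) numX &&
    Nat.beq (vimg (vimg (vimg vKey (matAt wTab (Nat.mod (pairAt j) 512))) (matAt xTab (Nat.div (pairAt j) 512)))
      (matAt wiTab (Nat.mod (pairAt j) 512))) (keyAt j)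

/-- A row times a matrix has the same cube as required and trace zero. -/
noncomputable def threeOne (K T : List ℕ) : Bool :=
  Nat.beq (vimg (vimg (vimg (vimg (vimg (vimg 1 K) T) K) T) K) T) 1 &&
    Nat.beq (Nat.mod (((List.range 14).map fun r => dig (vimg (K.getD r 0) T) r).sum) 5) 0

/-- The number of products that may be conjugate to the element is at most the bound. -/
noncomputable def threeOK (nK nT B : ℕ) (K T : List (List (List ℕ))) : Bool :=
  Nat.ble (((List.range nK).map fun l => (List.range nT).countP fun j => threeOne (matAt K l) (matAt T j)).sum) B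

/-- A product of listed stabiliser elements. -/
noncomputable def wordS (L : List ℕ) : List ℕ :=
  L.foldl (fun acc i => PackedMatrix.mul 5 14 acc (matAt m1_Tab i)) one14

/-- Two matrices commute. -/
noncomputable def commChk (A B : List ℕ) : Bool :=
  eqList (PackedMatrix.mul 5 14 A B) (PackedMatrix.mul 5 14 B A)

/-- Conjugation by the second inverts the first. -/
noncomputable def realChk (A B : List ℕ) : Bool :=
  eqList (PackedMatrix.mul 5 14 (PackedMatrix.mul 5 14 A B) A) B

/-- A point of a closed orbit of rows. -/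
noncomputable def orbOne (N : ℕ) (P : List (List ℕ)) (Par : List (List (ℕ × ℕ))) (Sc : List (List (List ℕ)))
    (Gs : List (List ℕ)) (t : ℕ) : Bool :=
  (Nat.beq t 0 || (Nat.blt (get16 (0, 0) Par t).1 t && Nat.blt (get16 (0, 0) Par t).2 Gs.length &&
      Nat.beq (vimg (get16 0 P (get16 (0, 0) Par t).1) (Gs.getD (get16 (0, 0) Par t).2 [])) (get16 0 P t))) &&
    ((List.range Gs.length).all fun s => Nat.blt ((get16 [] Sc t).getD s N) N &&
      Nat.beq (vimg (get16 0 P t) (Gs.getD s [])) (get16 0 P ((get16 [] Sc t).getD s N))) &&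
    Nat.beq (red 5 14 (get16 0 P t)) (get16 0 P t) &&
    (List.range t).all fun k => !Nat.beq (get16 0 P k) (get16 0 P t)

/-- The four elements of the stabiliser of class 1. -/
noncomputable def smallOK : Bool :=
  sgW.all (fun i => Nat.blt i 13) && shW.all (fun i => Nat.blt i 13) && saW.all (fun i => Nat.blt i 13) &&
    sbW.all (fun i => Nat.blt i 13) &&
    commChk (wordS sgW) (wordS shW) && commChk (wordS sgW) (wordS saW) && commChk (wordS sgW) (wordS sbW) &&
    !eqList (wordS sgW) one14 && !eqList (wordS shW) one14 &&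
    mulIs (wordS sgW) (PackedMatrix.mul 5 14 (wordS sgW) (wordS sgW)) one14 &&
    mulIs (wordS shW) (wordS shW) one14

/-- The elements of order five and their inverters. -/
noncomputable def fiveTest : Bool :=
  commChk (wordM faW) (wordM wX) && commChk (wordM fbW) (wordM wX) &&
    commChk (wordM fhaW) (wordM wX) && commChk (wordM fhbW) (wordM wX) &&
    realChk (wordM faW) (wordM fhaW) && realChk (wordM fbW) (wordM fhbW)

/-- The element has cube one, is not one and has trace zero. -/
noncomputable def xTest : Bool :=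
  mulIs (wordM wX) (PackedMatrix.mul 5 14 (wordM wX) (wordM wX)) one14 && !eqList (wordM wX) one14 &&
    Nat.beq (Nat.mod (((List.range 14).map fun r => dig ((wordM wX).getD r 0) r).sum) 5) 0 &&
    Nat.beq (red 5 14 vKey) vKey

end CfsgLib.Sporadic.CosetCert.LyThree
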