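import Cfsg.Agent.Lib.Sporadic.LyCent.Centraliser
import Cfsg.Agent.Lib.Sporadic.LyThree.Checks.GOne
import Cfsg.Agent.Lib.Sporadic.LyThree.Checks.Elems

/-!
# Elements of the presented Lyons group commuting with an element of order three
-/

set_option autoImplicit false
set_option maxRecDepth 100000

namespace CfsgLib.Sporadic.CosetCert.LyThree

open LyIndex LyG2Five LyCent WideMatrix

attribute [local instance] factPrimeFive

attribute [local irreducible] rep WideMatrix.mul okRows prodW oneW lane dec mA mAi mT lett111 nodeM nU nA7 nS0 nS1 nSW nY same vv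

/-- The element of order three. -/
noncomputable def V0 : LyP := vv 0

/-- An atom. -/
noncomputable def atomG (i : ℕ) : LyP :=
  if i < 9 then vv i else if i < 18 then (vv (i - 9))⁻¹ else gL (i - 18)

/-- An atom word. -/
noncomputable def aG (w : List ℕ) : LyP := (w.map atomG).prod

/-- A two-element, or the element of order three. -/
noncomputable def gg (k : ℕ) : LyP := aG (gAll.getD k [])

/-- A product of two-elements and the element of order three. -/
noncomputable def gP (w : List ℕ) : LyP := (w.map gg).prod

/-- The element squaring to the involution. -/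
noncomputable def uE : LyP := aG uWord

/-- The element of order seven. -/
noncomputable def a7E : LyP := aG a7Word

theorem means_atom (i : ℕ) : Means (atomM i) (atomG i) := by
  unfold atomM atomG
  by_cases h : i < 9
  · rw [if_pos h, if_pos h]; exact (means_vv h).1
  rw [if_neg h, if_neg h]
  by_cases h' : i < 18
  · rw [if_pos h', if_pos h']; exact (means_vv (show i - 9 < 9 by omega)).2
  · rw [if_neg h', if_neg h']; exact means_gL _

theorem means_atoms (w : List ℕ) : List.Forall₂ Means (atomsM w) (w.map atomG) := by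
  induction w with
  | nil => exact List.Forall₂.nil
  | cons x t ih => exact List.Forall₂.cons (means_atom x) ih

theorem means_V0 : Means (mA 0) V0 := (means_vv (by norm_num)).1

/-- Agreeing products stand for equal images. -/
theorem same_eq {L L' : List (List ℕ)} {l l' : List LyP} (h : List.Forall₂ Means L l)
    (h' : List.Forall₂ Means L' l') (hs : same L L' = true) : rep l.prod = rep l'.prod := by
  unfold same at hs
  rw [Nat.beq_eq, forced_eq, forced_eq] at hs
  have g1 := (good_one (n := 111)).prodW (by norm_num) (by norm_num) L (means_ok h)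
  have g2 := (good_one (n := 111)).prodW (by norm_num) (by norm_num) L' (means_ok h')
  rw [hs] at g1
  have e := Wide.good_mat g1 g2
  rw [one_mul, one_mul] at e
  exact Units.ext ((means_prod h).symm.trans (e.trans (means_prod h')))

/-- Products that disagree stand for different elements. -/
theorem same_ne {L L' : List (List ℕ)} {l l' : List LyP} (h : List.Forall₂ Means L l)
    (h' : List.Forall₂ Means L' l') (hs : same L L' = false) : l.prod ≠ l'.prod := by
  intro e
  have e1 : (L.map md111).prod = (L'.map md111).prod := by rw [means_prod h, means_prod h', e]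
  unfold same at hs
  rw [forced_eq, forced_eq] at hs
  have g1 := (good_one (n := 111)).prodW (by norm_num) (by norm_num) L (means_ok h)
  have g2 := (good_one (n := 111)).prodW (by norm_num) (by norm_num) L' (means_ok h')
  rw [show (L.map (dec 111)).prod = (L'.map (dec 111)).prod from e1] at g1
  have := Wide.good_num (by norm_num) g1 g2
  rw [this, Nat.beq_refl] at hs
  exact Bool.false_ne_true hs.symm

theorem means_of_same {L : List (List ℕ)} {l : List LyP} {M : List ℕ} (h : List.Forall₂ Means L l)
    (hM : okRows 111 M = true) (hs : same L [M] = true) : Means M l.prod := by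
  refine ⟨hM, ?_⟩
  unfold same at hs
  rw [Nat.beq_eq, forced_eq, forced_eq] at hs
  have g1 := (good_one (n := 111)).prodW (by norm_num) (by norm_num) L (means_ok h)
  have g2 := (good_one (n := 111)).prodW (by norm_num) (by norm_num) [M] (by simpa using hM)
  rw [hs] at g1
  have e := Wide.good_mat g1 g2
  rw [one_mul, one_mul, List.map_singleton, List.prod_singleton] at e
  exact (means_prod h).symm.trans e

theorem comm_of_same (hLy : Cfsg.IsLy LyP) {A B : List ℕ} {a b : LyP} (ha : Means A a) (hb : Means B b)
    (hs : same [A, B] [B, A] = true) : a * b = b * a := by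
  have e := same_eq (.cons ha (.cons hb .nil)) (.cons hb (.cons ha .nil)) hs
  simp only [List.prod_cons, List.prod_nil, mul_one] at e
  exact rep_injective hLy e

theorem pow_of_same (hLy : Cfsg.IsLy LyP) {A : List ℕ} {a : LyP} {n : ℕ} (ha : Means A a)
    (hs : same (List.replicate n A) [] = true) : a ^ n = 1 := by
  have h : List.Forall₂ Means (List.replicate n A) (List.replicate n a) := by
    clear hs
    induction n with
    | zero => exact .nil
    | succ n ih => exact .cons ha ih
  have e := same_eq h .nil hs
  rw [List.prod_replicate, List.prod_nil] at e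
  exact rep_injective hLy e

theorem ne_one_of_same {A : List ℕ} {a : LyP} (ha : Means A a) (hs : same [A] [] = false) : a ≠ 1 := by
  simpa using same_ne (.cons ha .nil) .nil hs

theorem means_gg {k : ℕ} (hk : k < 13) : Means (nodeM k) (gg k) := by
  have h := List.all_eq_true.1 g_test k (List.mem_range.2 hk)
  simp only [gOne, Bool.and_eq_true] at h
  exact means_of_same (means_atoms _) h.1.1.1 h.1.1.2

theorem gg_comm (hLy : Cfsg.IsLy LyP) {k : ℕ} (hk : k < 13) : gg k * V0 = V0 * gg k := by
  have h := List.all_eq_true.1 g_test k (List.mem_range.2 hk)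
  simp only [gOne, Bool.and_eq_true] at h
  exact comm_of_same hLy (means_gg hk) means_V0 h.1.2

theorem gg_pow (hLy : Cfsg.IsLy LyP) {k : ℕ} (hk : k < 12) : gg k ^ 8 = 1 := by
  have h := List.all_eq_true.1 g_test k (List.mem_range.2 (by omega))
  simp only [gOne, Bool.and_eq_true, Bool.or_eq_true] at h
  rcases h.2 with e | e
  · exact absurd (Nat.eq_of_beq_eq_true e) (by omega)
  · exact pow_of_same hLy (means_gg (by omega)) e

theorem gg_last : gg 12 = V0 := by
  simp [gg, aG, gAll, gWords, atomG, V0]

theorem small_facts (hLy : Cfsg.IsLy LyP) :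
    aG xWord = aG xConj ∧ uE * V0 = V0 * uE ∧ uE * uE = T ∧ a7E * V0 = V0 * a7E ∧ a7E * T = T * a7E ∧
      a7E ^ 7 = 1 ∧ a7E ≠ 1 := by
  have h := small_test
  simp only [smallTest, Bool.and_eq_true, Bool.not_eq_true'] at h
  obtain ⟨⟨⟨⟨⟨⟨⟨⟨⟨⟨hx, ou⟩, hu⟩, cu⟩, su⟩, oa⟩, ha⟩, ca⟩, ct⟩, pa⟩, na⟩ := h
  have mu : Means nU uE := means_of_same (means_atoms _) ou hu
  have ma : Means nA7 a7E := means_of_same (means_atoms _) oa ha
  refine ⟨rep_injective hLy (same_eq (means_atoms _) (means_atoms _) hx), comm_of_same hLy mu means_V0 cu, ?_,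
    comm_of_same hLy ma means_V0 ca, comm_of_same hLy ma means_TWV.1 ct, pow_of_same hLy ma pa,
    ne_one_of_same ma na⟩
  have e := same_eq (.cons mu (.cons mu .nil)) (.cons means_TWV.1 .nil) su
  simp only [List.prod_cons, List.prod_nil, mul_one] at e
  exact rep_injective hLy e

theorem means_nodes : ∀ w : List ℕ, (∀ k ∈ w, k ≤ 12) → List.Forall₂ Means (nodesM w) (w.map gg) := by
  intro w
  induction w with
  | nil => exact fun _ => List.Forall₂.nil
  | cons x t ih =>
    intro h
    exact List.Forall₂.cons (means_gg (by have := h x List.mem_cons_self; omega))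
      (ih fun k hk => h k (List.mem_cons_of_mem _ hk))

theorem word_le : ∀ k, k ∈ s0Word ∨ k ∈ s1Word ∨ k ∈ swWord ∨ k ∈ yWord → k ≤ 12 := by
  intro k hk
  have h := prod_test
  simp only [prodTest, Bool.and_eq_true, List.all_eq_true, List.mem_append] at h
  exact Nat.le_of_ble_eq_true (h.2 k (by tauto))

/-- The facts about the products. -/
theorem prod_facts (hLy : Cfsg.IsLy LyP) :
    Means nS0 (gP s0Word) ∧ Means nS1 (gP s1Word) ∧ Means nSW (gP swWord) ∧ gP swWord ^ 3 = 1 ∧
      gP swWord ≠ 1 ∧ gP swWord ≠ V0 ∧ gP swWord ≠ V0 * V0 ∧ gP yWord ^ 11 = 1 ∧ gP yWord ≠ 1 := by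
  have hw := word_le
  have h := prod_test
  simp only [prodTest, Bool.and_eq_true, Bool.not_eq_true'] at h
  obtain ⟨⟨⟨⟨⟨⟨⟨⟨⟨⟨⟨⟨⟨⟨o0, e0⟩, o1⟩, e1⟩, ow⟩, ew⟩, w3⟩, w1⟩, wv⟩, wvv⟩, oy⟩, ey⟩, y11⟩, y1⟩, -⟩ := h
  have m0 : Means nS0 (gP s0Word) := means_of_same (means_nodes _ fun k hk => hw k (.inl hk)) o0 e0
  have m1 : Means nS1 (gP s1Word) := means_of_same (means_nodes _ fun k hk => hw k (.inr (.inl hk))) o1 e1
  have mw : Means nSW (gP swWord) := means_of_same (means_nodes _ fun k hk => hw k (.inr (.inr (.inl hk)))) ow ew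
  have my : Means nY (gP yWord) := means_of_same (means_nodes _ fun k hk => hw k (.inr (.inr (.inr hk)))) oy ey
  refine ⟨m0, m1, mw, pow_of_same hLy mw w3, ne_one_of_same mw w1, ?_, ?_, pow_of_same hLy my y11,
    ne_one_of_same my y1⟩
  · simpa using same_ne (.cons mw .nil) (.cons means_V0 .nil) wv
  · simpa using same_ne (.cons mw .nil) (.cons means_V0 (.cons means_V0 .nil)) wvv

theorem gP_comm (hLy : Cfsg.IsLy LyP) {w : List ℕ} (hw : ∀ k ∈ w, k ≤ 12) : gP w * V0 = V0 * gP w := by
  induction w with
  | nil => simp [gP]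
  | cons x t ih =>
    have e : gP (x :: t) = gg x * gP t := by simp [gP]
    rw [e, mul_assoc, ih fun k hk => hw k (List.mem_cons_of_mem _ hk), ← mul_assoc,
      gg_comm hLy (by have := hw x List.mem_cons_self; omega), mul_assoc]

end CfsgLib.Sporadic.CosetCert.LyThree
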