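import Cfsg.Agent.Lib.Sporadic.LyThree.Stab

/-!
# The centraliser of the element of order three has order less than twice `2694384000`, and contains a
subgroup of order divisible by 125
-/

set_option autoImplicit false
set_option maxRecDepth 100000

namespace CfsgLib.Sporadic.CosetCert.LyThree

open LyIndex LyG2Five LyCent PackedMatrix
open scoped Matrix

attribute [local instance] factPrimeFive

attribute [local irreducible] PackedMatrix.mul PackedMatrix.ok vimg scaleIs getN wordM lineAt mulIs matAt get16 threeOne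

/-- Bounds for the numbers of fixed cosets in the classes. -/
def fix3 : List ℕ := [1, 1271, 946, 3311, 4414]

theorem le_of_bound {z s n f : ℕ} (h : z * s ≤ 476806 * n) (hn : 476806 * n < (f + 1) * s) : z ≤ f := by
  by_contra hc
  exact absurd (le_trans (Nat.mul_le_mul_right s (Nat.not_le.1 hc)) h) (Nat.not_le.2 hn)

theorem class_zero :
    Nat.card {q : E ⧸ stab 0 // q.out⁻¹ * x0 * q.out ∈ stab 0} ≤ fix3.getD 0 0 := by
  have hl : classLen.getD 0 0 = 1 := by decide
  have hs : Nat.card (E ⧸ stab 0) ≤ 1 := by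
    rw [← Subgroup.index_eq_card]
    exact le_trans (stab_index (show 0 < 5 by norm_num)) hl.le
  refine le_trans (Nat.card_le_card_of_injective (fun q => q.1) Subtype.val_injective) (le_trans hs ?_)
  decide

theorem class_fix (h : Hs.index = 8835156) {i : ℕ} (hi : i < 5) :
    Nat.card {q : E ⧸ stab i // q.out⁻¹ * x0 * q.out ∈ stab i} ≤ fix3.getD i 0 := by
  have hb := fixed_bound x0 (stab i) (conjSet i) fun k hk => ⟨hk, k, rfl⟩
  rw [stab_card h hi] at hb
  have hc := card_centralizer_le
  have fin : ∀ n : ℕ, Nat.card (conjSet i) ≤ n →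
      Nat.card {q : E ⧸ stab i // q.out⁻¹ * x0 * q.out ∈ stab i} * stabCard.getD i 0 ≤ 476806 * n :=
    fun n hn => hb.trans (Nat.mul_le_mul hc hn)
  interval_cases i
  · exact class_zero
  · exact le_of_bound (fin 800 (class_one_bound h)) (by norm_num [stabCard, fix3])
  · exact le_of_bound (fin 2 (count_three (by norm_num) (stab_card h (show 2 < 5 by norm_num)).le innerTree2
      outerTree2 inner2 outer2 three_count2)) (by norm_num [stabCard, fix3])
  · exact le_of_bound (fin 20 (count_three (by norm_num) (stab_card h (show 3 < 5 by norm_num)).le innerTree3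
      outerTree3 inner3 outer3 three_count3)) (by norm_num [stabCard, fix3])
  · exact le_of_bound (fin 56 (count_three (by norm_num) (stab_card h (show 4 < 5 by norm_num)).le innerTree4
      outerTree4 inner4 outer4 three_count4)) (by norm_num [stabCard, fix3])

theorem fix_le (h : Hs.index = 8835156) : Nat.card {c : LyP ⧸ Hs // gE x0 • c = c} ≤ 9943 := by
  have : Finite (LyP ⧸ Hs) := Finite.of_surjective _ classMap_surj
  let D := Σ i : Fin 5, {q : E ⧸ stab i // q.out⁻¹ * x0 * q.out ∈ stab i}
  have hsur : ∀ c : {c : LyP ⧸ Hs // gE x0 • c = c}, ∃ d : D, classMap ⟨d.1, d.2.1⟩ = c.1 := by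
    rintro ⟨c, hc⟩
    obtain ⟨⟨i, q⟩, rfl⟩ := classMap_surj c
    refine ⟨⟨i, q, ?_⟩, rfl⟩
    have e : classMap ⟨i, q⟩ = QuotientGroup.mk (gE q.out * (wG i)⁻¹) := by
      conv_lhs => rw [← QuotientGroup.out_eq' q]
      rfl
    rw [e, MulAction.Quotient.smul_mk, QuotientGroup.eq] at hc
    have h1 := inv_mem (s := Hs) hc
    show RS (wG i * gE (q.out⁻¹ * x0 * q.out)) (wG i)
    rw [RS]
    convert h1 using 1
    simp only [smul_eq_mul, map_mul, map_inv, mul_inv_rev, inv_inv]
    group
  choose d hd using hsur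
  have hinj : Function.Injective d := fun a b e => Subtype.ext (by rw [← hd a, ← hd b, e])
  refine (Nat.card_le_card_of_injective d hinj).trans ?_
  rw [Nat.card_sigma]
  refine (Finset.sum_le_sum fun (i : Fin 5) _ => class_fix h i.2).trans ?_
  decide

/-- The bound for the centraliser. -/
theorem card_centralizer_lt (h : Hs.index = 8835156) :
    Nat.card (Subgroup.centralizer ({gE x0} : Set LyP)) < 5388768000 := by
  have : Finite (LyP ⧸ Hs) := Finite.of_surjective _ classMap_surj
  set C := Subgroup.centralizer ({gE x0} : Set LyP) with hC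
  have hcomm : ∀ c : C, gE x0 * (c : LyP) = c * gE x0 := fun c =>
    (Subgroup.mem_centralizer_singleton_iff.1 c.2).symm
  let o : C → {c : LyP ⧸ Hs // gE x0 • c = c} := fun c => ⟨QuotientGroup.mk (c : LyP), by
    rw [MulAction.Quotient.smul_mk, QuotientGroup.eq, smul_eq_mul, hcomm c,
      show ((c : LyP) * gE x0)⁻¹ * c = (gE x0)⁻¹ by group]
    exact inv_mem ⟨x0, rfl⟩⟩
  choose r hr using fun f : {f : {c : LyP ⧸ Hs // gE x0 • c = c} // ∃ c : C, o c = f} => f.2
  have hk : ∀ c : C, ∃ k : Subgroup.centralizer ({x0} : Set E),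
      gE k = ((r ⟨o c, c, rfl⟩ : C) : LyP)⁻¹ * c := by
    intro c
    have h1 := congrArg Subtype.val (hr ⟨o c, c, rfl⟩)
    obtain ⟨k, hk⟩ := QuotientGroup.eq.1 h1
    refine ⟨⟨k, Subgroup.mem_centralizer_singleton_iff.2 (gE_injective ?_)⟩, hk⟩
    have h2 := hcomm ((r ⟨o c, c, rfl⟩)⁻¹ * c)
    simp only [Subgroup.coe_mul, Subgroup.coe_inv, ← hk] at h2
    rw [map_mul, map_mul, h2]
  choose k hk' using hk
  have hinj : Function.Injective fun c => (o c, k c) := fun a b e => by
    simp only [Prod.mk.injEq] at e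
    refine Subtype.ext ?_
    have ha := hk' a
    have hb := hk' b
    rw [e.2] at ha
    have : r ⟨o a, a, rfl⟩ = r ⟨o b, b, rfl⟩ := congrArg r (Subtype.ext e.1)
    rw [this, hb] at ha
    exact (mul_left_cancel ha).symm
  have hle : Nat.card C ≤ Nat.card {c : LyP ⧸ Hs // gE x0 • c = c} *
      Nat.card (Subgroup.centralizer ({x0} : Set E)) := by
    rw [← Nat.card_prod]
    exact Nat.card_le_card_of_injective _ hinj
  exact lt_of_le_of_lt (hle.trans (Nat.mul_le_mul (fix_le h) card_centralizer_le)) (by norm_num)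

/-- A subgroup of order divisible by 125 generated by two elements that are inverted in the centraliser. -/
theorem exists_five : ∃ a b ha hb : E, x0 * a = a * x0 ∧ x0 * b = b * x0 ∧ x0 * ha = ha * x0 ∧
    x0 * hb = hb * x0 ∧ ha * a * ha⁻¹ = a⁻¹ ∧ hb * b * hb⁻¹ = b⁻¹ ∧
    125 ∣ Nat.card (Subgroup.closure ({a, b} : Set E)) := by
  have hf := five_test
  simp only [fiveTest, Bool.and_eq_true] at hf
  obtain ⟨⟨⟨⟨⟨c1, c2⟩, c3⟩, c4⟩, r1⟩, r2⟩ := hf
  have real : ∀ {A B : List ℕ} {a h : E}, Stands A a → Stands B h → realChk A B = true → h * a * h⁻¹ = a⁻¹ := by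
    intro A B a h sa sh hr
    have e : a * h * a = h := stands_eq (K := B) (by
      rw [← eqList_spec _ _ hr]
      refine ⟨ok_mul (by norm_num) (by norm_num) (ok_mul (by norm_num) (by norm_num) sa.1 _) _, ?_⟩
      rw [map_mul, map_mul, sa.2, sh.2]
      exact ((dec_mul (by norm_num) (by norm_num) (ok_mul (by norm_num) (by norm_num) sa.1 _) sa.1).trans
        (congrArg (· * _) (dec_mul (by norm_num) (by norm_num) sa.1 sh.1))).symm) sh
    have e2 : h * a = a⁻¹ * h := by
      conv_rhs => rw [← e]
      group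
    rw [e2]
    group
  refine ⟨wordE faW, wordE fbW, wordE fhaW, wordE fhbW, (comm_spec (stands_word _) stands_x0 c1).symm,
    (comm_spec (stands_word _) stands_x0 c2).symm, (comm_spec (stands_word _) stands_x0 c3).symm,
    (comm_spec (stands_word _) stands_x0 c4).symm, real (stands_word _) (stands_word _) r1,
    real (stands_word _) (stands_word _) r2, ?_⟩
  let gs : Fin [wordM faW, wordM fbW].length → E := fun s => if (s : ℕ) = 0 then wordE faW else wordE fbW
  refine (orbit_div (by norm_num) orb_five gs fun s => ?_).trans (Subgroup.card_dvd_of_le (Subgroup.closure_mono ?_))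
  · obtain ⟨s, hs⟩ := s
    simp only [List.length_cons, List.length_nil] at hs
    interval_cases s
    · exact stands_word _
    · exact stands_word _
  · rintro _ ⟨s, rfl⟩
    show gs s ∈ _
    simp only [gs]
    split
    · exact Or.inl rfl
    · exact Or.inr rfl

end CfsgLib.Sporadic.CosetCert.LyThree
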