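import Mathlib.GroupTheory.Sylow
import Mathlib.GroupTheory.Index
import Mathlib.GroupTheory.GroupAction.Quotient
import Mathlib.GroupTheory.PGroup
import Mathlib.GroupTheory.Perm.Sign
import Mathlib.GroupTheory.SpecificGroups.Cyclic
import Mathlib.Tactic.Group
import Mathlib.Tactic.IntervalCases

/-!
# Orbit divisors and counts of conjugates of an element of order three
-/

set_option autoImplicit false

namespace CfsgLib.Sporadic.CosetCert.LyThree

/-- A closed orbit with a fixed subgroup divides the order of the generated subgroup. -/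
theorem orbit_dvd {A Ω : Type*} [Group A] [Finite A] (act : Ω → A → Ω) (h1 : ∀ p, act p 1 = p)
    (hmul : ∀ p a b, act p (a * b) = act (act p a) b) (G : Set A) (v : Ω) {N : ℕ} (P : Fin N → Ω)
    (hinj : Function.Injective P) (hv : ∃ t, P t = v)
    (hreach : ∀ t, ∃ s ∈ Subgroup.closure G, act v s = P t)
    (hclosed : ∀ g ∈ G, ∀ t, ∃ t', act (P t) g = P t')
    (K : Subgroup A) (hK : K ≤ Subgroup.closure G) (hfix : ∀ k ∈ K, act v k = v) :
    N * Nat.card K ∣ Nat.card (Subgroup.closure G) := by
  classical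
  obtain ⟨S, hS⟩ : ∃ S, S = Subgroup.closure G := ⟨_, rfl⟩
  rw [← hS] at hreach hK ⊢
  have closed : ∀ s ∈ S, ∀ t, ∃ t', act (P t) s = P t' := by
    intro s hs
    rw [hS, ← Subgroup.mem_toSubmonoid, Subgroup.closure_toSubmonoid_of_finite] at hs
    induction hs using Submonoid.closure_induction with
    | mem y hy => exact hclosed y hy
    | one => exact fun t => ⟨t, h1 _⟩
    | mul a b _ _ iha ihb =>
      intro t
      obtain ⟨t1, e1⟩ := iha t
      obtain ⟨t2, e2⟩ := ihb t1
      exact ⟨t2, by rw [hmul, e1, e2]⟩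
  have inv_fix : ∀ a : A, act v a = v → act v a⁻¹ = v := fun a ha => by
    conv_lhs => rw [← ha, ← hmul, mul_inv_cancel, h1]
  let St : Subgroup S :=
    { carrier := {x | act v (x : A) = v}
      one_mem' := h1 v
      mul_mem' := fun {x y} hx hy => by
        show act v ((x : A) * y) = v
        rw [hmul, show act v (x : A) = v from hx]; exact hy
      inv_mem' := fun {x} hx => inv_fix _ hx }
  choose g hgS hg using hreach
  let f : Fin N → S ⧸ St := fun t => QuotientGroup.mk (⟨g t, hgS t⟩⁻¹ : S)
  have hf : Function.Bijective f := by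
    constructor
    · intro t s e
      have e2 : act v (g t * (g s)⁻¹) = v := by
        have hm := QuotientGroup.eq.1 e
        simpa [St] using hm
      refine hinj ?_
      rw [← hg, ← hg]
      have := congrArg (fun p => act p (g s)) e2
      simpa [← hmul, mul_assoc] using this
    · intro c
      obtain ⟨x, rfl⟩ := QuotientGroup.mk_surjective c
      obtain ⟨t0, ht0⟩ := hv
      obtain ⟨t, ht⟩ := closed _ (inv_mem x.2) t0
      refine ⟨t, QuotientGroup.eq.2 ?_⟩
      show act v ((((⟨g t, hgS t⟩ : S)⁻¹)⁻¹ * x : S) : A) = v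
      rw [inv_inv, Subgroup.coe_mul, hmul, hg, ← ht, ← hmul, inv_mul_cancel, h1, ht0]
  have hidx : St.index = N := by
    rw [Subgroup.index, ← Nat.card_eq_of_bijective f hf, Nat.card_fin]
  have hle : K.subgroupOf S ≤ St := fun k hk => hfix _ hk
  have hc : Nat.card (K.subgroupOf S) = Nat.card K := Nat.card_congr (Subgroup.subgroupOfEquivOfLe hK).toEquiv
  rw [← St.index_mul_card, hidx, ← hc]
  exact Nat.mul_dvd_mul_left _ (Subgroup.card_dvd_of_le hle)

/-- The conjugates, in a subgroup with a Sylow subgroup of order three, of an element of order three. -/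
theorem three_class_bound {A : Type*} [Group A] [Finite A] (hA : (Nat.card A).factorization 3 = 1) (g : A)
    (hg : orderOf g = 3) :
    Nat.card {y : A // orderOf y = 3} ≤ 2 * (Subgroup.centralizer ({g} : Set A)).index := by
  classical
  have : Fact (Nat.Prime 3) := ⟨Nat.prime_three⟩
  have hcard : ∀ y : A, orderOf y = 3 → Nat.card (Subgroup.zpowers y) = 3 ^ (Nat.card A).factorization 3 :=
    fun y hy => by rw [hA, pow_one, Nat.card_zpowers, hy]
  have key : ∀ y : A, orderOf y = 3 → ∃ c : A, ∃ b : Bool, y = c * (bif b then g else g⁻¹) * c⁻¹ := by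
    intro y hy
    obtain ⟨c, hc⟩ := MulAction.exists_smul_eq A (Sylow.ofCard (Subgroup.zpowers g) (hcard g hg))
      (Sylow.ofCard (Subgroup.zpowers y) (hcard y hy))
    refine ⟨c, ?_⟩
    have hy' : y ∈ ((c • Sylow.ofCard (Subgroup.zpowers g) (hcard g hg) : Sylow 3 A) : Subgroup A) := by
      rw [hc]
      exact Subgroup.mem_zpowers y
    rw [Sylow.coe_subgroup_smul] at hy'
    have hy2 : c⁻¹ * y * c ∈ Subgroup.zpowers g := by
      obtain ⟨w, hw, e⟩ := Subgroup.mem_map.1 hy'
      have e' : c * w * c⁻¹ = y := e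
      rw [← e']
      simpa [mul_assoc] using hw
    obtain ⟨n, hn⟩ := Subgroup.mem_zpowers_iff.1 hy2
    have h3 : g ^ (3 : ℤ) = 1 := by
      rw [show (3 : ℤ) = ((3 : ℕ) : ℤ) from rfl, zpow_natCast, ← hg, pow_orderOf_eq_one]
    have hmod : g ^ n = g ^ (n % 3) := by
      conv_lhs => rw [show n = n % 3 + 3 * (n / 3) by omega, zpow_add, zpow_mul, h3, one_zpow, mul_one]
    have hy3 : y = c * g ^ (n % 3) * c⁻¹ := by rw [← hmod, hn]; group
    have : n % 3 = 0 ∨ n % 3 = 1 ∨ n % 3 = 2 := by omega
    rcases this with h | h | h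
    · exfalso
      rw [h, zpow_zero, mul_one, mul_inv_cancel] at hy3
      rw [hy3, orderOf_one] at hy
      omega
    · exact ⟨true, by rw [hy3, h, zpow_one]; rfl⟩
    · refine ⟨false, ?_⟩
      rw [hy3, h]
      show c * g ^ (2 : ℤ) * c⁻¹ = c * g⁻¹ * c⁻¹
      congr 2
      refine eq_inv_of_mul_eq_one_left ?_
      rw [← zpow_add_one]
      exact h3
  choose c b hcb using key
  let F : {y : A // orderOf y = 3} → Bool × (A ⧸ Subgroup.centralizer ({g} : Set A)) :=
    fun y => (b y.1 y.2, QuotientGroup.mk (c y.1 y.2))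
  have hF : Function.Injective F := by
    rintro ⟨y, hy⟩ ⟨z, hz⟩ e
    obtain ⟨e1, e2⟩ := Prod.ext_iff.1 e
    have hm := Subgroup.mem_centralizer_singleton_iff.1 (QuotientGroup.eq.1 e2)
    refine Subtype.ext ?_
    show y = z
    rw [hcb y hy, hcb z hz, show b y hy = b z hz from e1]
    have hcc : Commute ((c y hy)⁻¹ * c z hz) (bif b z hz then g else g⁻¹) := by
      cases b z hz
      · exact Commute.inv_right hm
      · exact hm
    calc c y hy * (bif b z hz then g else g⁻¹) * (c y hy)⁻¹
        = c y hy * ((bif b z hz then g else g⁻¹) * ((c y hy)⁻¹ * c z hz)) * (c z hz)⁻¹ := by group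
      _ = c y hy * (((c y hy)⁻¹ * c z hz) * (bif b z hz then g else g⁻¹)) * (c z hz)⁻¹ := by rw [hcc.eq]
      _ = c z hz * (bif b z hz then g else g⁻¹) * (c z hz)⁻¹ := by group
  refine (Nat.card_le_card_of_injective F hF).trans (le_of_eq ?_)
  rw [Nat.card_prod, Subgroup.index, Nat.card_eq_fintype_card (α := Bool), Fintype.card_bool]

/-- An element of order seven with no free orbit on a coset space centralises a normalised subgroup. -/
theorem centralizes {A : Type*} [Group A] [Finite A] (a : A) (ha : orderOf a = 7) (Q : Subgroup A)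
    (hnorm : ∀ q ∈ Q, a * q * a⁻¹ ∈ Q) {p n : ℕ} (hp : p.Prime) (hQ : Nat.card Q = p ^ n) (h7 : ¬ 7 ∣ Nat.card Q)
    (hd : ∀ d, 1 ≤ d → d ≤ n → p ^ d % 7 ≠ 1) : ∀ q ∈ Q, a * q = q * a := by
  classical
  have : Fact (Nat.Prime 7) := ⟨by decide⟩
  let Ac := Subgroup.zpowers a
  have hnorm' : ∀ k ∈ Ac, ∀ q ∈ Q, k * q * k⁻¹ ∈ Q := by
    intro k hk
    rw [← mem_powers_iff_mem_zpowers] at hk
    obtain ⟨i, rfl⟩ := hk
    intro q hq
    induction i with
    | zero => simpa using hq
    | succ i ih =>
      show a ^ (i + 1) * q * (a ^ (i + 1))⁻¹ ∈ Q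
      rw [pow_succ', show a * a ^ i * q * (a * a ^ i)⁻¹ = a * (a ^ i * q * (a ^ i)⁻¹) * a⁻¹ by group]
      exact hnorm _ ih
  let D : Subgroup A := Q ⊓ Subgroup.centralizer ({a} : Set A)
  have hD : ∀ d ∈ D, ∀ k ∈ Ac, k * d * k⁻¹ = d := by
    intro d hd' k hk
    obtain ⟨i, rfl⟩ := Subgroup.mem_zpowers_iff.1 hk
    have h : Commute d a := Subgroup.mem_centralizer_singleton_iff.1 hd'.2
    rw [(h.zpow_right i).symm.eq]
    group
  let P0 := D.subgroupOf Q
  let smul : Ac → Q ⧸ P0 → Q ⧸ P0 := fun k => Quotient.map'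
    (fun q : Q => (⟨(k : A) * q * (k : A)⁻¹, hnorm' k k.2 q q.2⟩ : Q)) fun q r h => by
      rw [QuotientGroup.leftRel_apply] at h ⊢
      show ((((k : A) * q * (k : A)⁻¹)⁻¹ * ((k : A) * r * (k : A)⁻¹)) : A) ∈ D
      have e : ((k : A) * q * (k : A)⁻¹)⁻¹ * ((k : A) * r * (k : A)⁻¹) =
          (k : A) * ((q : A)⁻¹ * r) * (k : A)⁻¹ := by group
      have h' : (q : A)⁻¹ * r ∈ D := h
      rw [e, hD _ h' k k.2]
      exact h'
  letI : MulAction Ac (Q ⧸ P0) :=
    { smul := smul
      one_smul := fun x => by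
        induction x using QuotientGroup.induction_on with
        | _ q => exact congrArg QuotientGroup.mk (Subtype.ext (by simp))
      mul_smul := fun k l x => by
        induction x using QuotientGroup.induction_on with
        | _ q =>
          refine congrArg QuotientGroup.mk (Subtype.ext ?_)
          show ((k : A) * l) * q * ((k : A) * l)⁻¹ = (k : A) * ((l : A) * q * (l : A)⁻¹) * (k : A)⁻¹
          group }
  have hP : IsPGroup 7 Ac := IsPGroup.of_card (n := 1) (by rw [Nat.card_zpowers, ha, pow_one])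
  have hfix : MulAction.fixedPoints Ac (Q ⧸ P0) = {QuotientGroup.mk 1} := by
    ext x
    induction x using QuotientGroup.induction_on with
    | _ q =>
      constructor
      · intro hx
        have h := QuotientGroup.eq.1 ((hx ⟨a, Subgroup.mem_zpowers a⟩).symm)
        rw [Subgroup.mem_subgroupOf] at h
        obtain ⟨c, hc⟩ : ∃ c, c = (q : A)⁻¹ * (a * q * a⁻¹) := ⟨_, rfl⟩
        have hcD : c ∈ D := hc ▸ h
        have hca : Commute c a := Subgroup.mem_centralizer_singleton_iff.1 hcD.2
        have step : ∀ i : ℕ, a ^ i * q * (a ^ i)⁻¹ = (q : A) * c ^ i := by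
          intro i
          induction i with
          | zero => simp
          | succ i ih =>
            calc a ^ (i + 1) * q * (a ^ (i + 1))⁻¹ = a * (a ^ i * q * (a ^ i)⁻¹) * a⁻¹ := by
                  rw [pow_succ']; group
              _ = a * q * a⁻¹ * (a * c ^ i * a⁻¹) := by rw [ih]; group
              _ = q * c * c ^ i := by
                  rw [(hca.pow_left i).symm.eq, mul_inv_cancel_right, hc]; group
              _ = q * c ^ (i + 1) := by rw [pow_succ']; group
        have h1 := step 7
        rw [← ha, pow_orderOf_eq_one, one_mul, inv_one, mul_one, ha, left_eq_mul] at h1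
        have hc1 : c = 1 := by
          have hdvd : orderOf c ∣ Nat.card Q := by
            have := orderOf_dvd_natCard (⟨c, hcD.1⟩ : Q)
            rwa [← Subgroup.orderOf_coe] at this
          have h7' := orderOf_dvd_of_pow_eq_one h1
          rcases (Nat.dvd_prime (by decide : Nat.Prime 7)).1 h7' with h0 | h0
          · exact orderOf_eq_one_iff.1 h0
          · exact absurd (h0 ▸ hdvd) h7
        refine QuotientGroup.eq.2 ?_
        rw [Subgroup.mem_subgroupOf, mul_one]
        show (q : A)⁻¹ ∈ D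
        refine inv_mem ⟨q.2, Subgroup.mem_centralizer_singleton_iff.2 ?_⟩
        rw [hc1] at hc
        have := congrArg (fun e => (q : A) * e * a) hc
        simp only [mul_one, mul_inv_cancel_left, inv_mul_cancel_right] at this
        exact this
      · rintro hx ⟨k, hk⟩
        rw [Set.mem_singleton_iff] at hx
        rw [hx]
        exact congrArg QuotientGroup.mk (Subtype.ext (by simp))
  have hmod := hP.card_modEq_card_fixedPoints (Q ⧸ P0)
  rw [hfix, Nat.card_coe_set_eq, Set.ncard_singleton] at hmod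
  have hidx : P0.index ∣ p ^ n := hQ ▸ P0.index_dvd_card
  obtain ⟨d, hdn, hde⟩ := (Nat.dvd_prime_pow hp).1 hidx
  have hm : p ^ d % 7 = 1 := by rw [← hde]; exact hmod
  rcases Nat.eq_zero_or_pos d with rfl | hpos
  · intro q hq
    have htop : P0 = ⊤ := Subgroup.index_eq_one.1 (by rw [hde, pow_zero])
    have : (⟨q, hq⟩ : Q) ∈ P0 := htop ▸ Subgroup.mem_top _
    exact (Subgroup.mem_centralizer_singleton_iff.1 this.2).symm
  · exact absurd hm (hd d hpos hdn)

end CfsgLib.Sporadic.CosetCert.LyThree
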