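import Cfsg.Agent.Lib.Sporadic.LyThree.Elements
import Cfsg.Agent.Lib.Sporadic.LyThree.Alt

/-!
# The centraliser of the involution inside the centraliser of the element of order three
-/

set_option autoImplicit false
set_option maxRecDepth 100000

namespace CfsgLib.Sporadic.CosetCert.LyThree

open LyIndex LyG2Five LyCent

attribute [local instance] factPrimeFive

attribute [local irreducible] rep vv uE a7E

/-- The facts about the centraliser of the involution in the centraliser. -/
theorem local_facts (hLy : Cfsg.IsLy LyP) {C : Subgroup LyP} (hC : C = Subgroup.centralizer ({V0} : Set LyP))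
    (v t a7 : C) (hv : (v : LyP) = V0) (ht : (t : LyP) = T) (ha : (a7 : LyP) = a7E) :
    Nat.card (Subgroup.centralizer ({t} : Set C)) = 120960 ∧
    (∀ L : Subgroup C, L ≤ Subgroup.centralizer ({t} : Set C) → Subgroup.zpowers v ≤ L →
      (∀ u ∈ Subgroup.centralizer ({t} : Set C), ∀ l ∈ L, u * l * u⁻¹ ∈ L) → a7 ∈ L →
      L = Subgroup.centralizer ({t} : Set C)) ∧
    (∀ L : Subgroup C, L ≤ Subgroup.centralizer ({t} : Set C) → Subgroup.zpowers v ≤ L →
      (∀ u ∈ Subgroup.centralizer ({t} : Set C), ∀ l ∈ L, u * l * u⁻¹ ∈ L) → a7 ∉ L →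
      ∀ l ∈ L, ∃ x ∈ Subgroup.zpowers v, l = x ∨ l = x * t) := by
  classical
  have := finite_LyP hLy
  obtain ⟨e, he⟩ := exists_iso hLy
  obtain ⟨-, uV, uu, -, aT, a7p, a7n⟩ := small_facts hLy
  let A : Subgroup C := Subgroup.centralizer ({t} : Set C)
  let ι : A →* CT :=
    { toFun := fun a => ⟨((a : C) : LyP), Subgroup.mem_centralizer_singleton_iff.2 (by
        have h := congrArg Subtype.val (Subgroup.mem_centralizer_singleton_iff.1 a.2)
        simpa [ht] using h)⟩
      map_one' := rfl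
      map_mul' := fun a b => rfl }
  let f : CT →* alternatingGroup (Fin 11) := e.symm.toMonoidHom.comp (QuotientGroup.mk' Z0)
  have hf : ∀ i, f (vC hLy i) = cyc i := fun i => by
    show e.symm (QuotientGroup.mk (vC hLy i)) = cyc i
    rw [← he i, e.symm_apply_apply]
  have hfk : ∀ c, f c = 1 ↔ (c : LyP) = 1 ∨ (c : LyP) = T := fun c => by
    rw [← mem_Z0, ← QuotientGroup.eq_one_iff]
    exact map_eq_one_iff _ e.symm.injective
  let F : A →* alternatingGroup (Fin 11) := f.comp ι
  have htA : t ∈ A := Subgroup.mem_centralizer_singleton_iff.2 rfl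
  have hvA : v ∈ A := Subgroup.mem_centralizer_singleton_iff.2 (Subtype.ext (by
    rw [Subgroup.coe_mul, Subgroup.coe_mul, hv, ht]
    exact comm_T hLy (by norm_num)))
  have hFv : F ⟨v, hvA⟩ = c0 := by
    show f (ι ⟨v, hvA⟩) = cyc 0
    rw [← hf 0]
    exact congrArg f (Subtype.ext hv)
  have hFeq : ∀ a b : A, F a = F b → (a : C) = b ∨ (a : C) = (b : C) * t := fun a b h => by
    have h1 : f (ι (b⁻¹ * a)) = 1 := by
      show F (b⁻¹ * a) = 1
      rw [map_mul, map_inv, h, inv_mul_cancel]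
    rcases (hfk _).1 h1 with h2 | h2
    · left
      have h3 : ((b : C) : LyP)⁻¹ * ((a : C) : LyP) = 1 := h2
      exact Subtype.ext (inv_mul_eq_one.1 h3).symm
    · right
      have h3 : ((b : C) : LyP)⁻¹ * ((a : C) : LyP) = T := h2
      exact Subtype.ext (by rw [Subgroup.coe_mul, ht, ← h3, mul_inv_cancel_left])
  have hrange : F.range = C11 := by
    refine le_antisymm ?_ fun σ hσ => ?_
    · rintro _ ⟨a, rfl⟩
      refine Subgroup.mem_centralizer_singleton_iff.2 ?_
      have hc : ∀ x : C, v * x = x * v := fun x => Subtype.ext (by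
        have hx : (x : LyP) ∈ Subgroup.centralizer ({V0} : Set LyP) := hC ▸ x.2
        rw [Subgroup.coe_mul, Subgroup.coe_mul, hv]
        exact (Subgroup.mem_centralizer_singleton_iff.1 hx).symm)
      rw [← hFv, ← map_mul, ← map_mul]
      exact congrArg F (Subtype.ext (hc a).symm)
    · obtain ⟨c, hc⟩ := QuotientGroup.mk_surjective (e σ)
      have hfc : f c = σ := by
        show e.symm (QuotientGroup.mk c) = σ
        rw [hc, e.symm_apply_apply]
      have h1 : f (c * vC hLy 0 * c⁻¹ * (vC hLy 0)⁻¹) = 1 := by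
        rw [map_mul, map_mul, map_mul, map_inv, map_inv, hfc, hf]
        have hs := Subgroup.mem_centralizer_singleton_iff.1 hσ
        rw [show cyc 0 = c0 from rfl, hs]; group
      have hcv : (c : LyP) * V0 = V0 * c := by
        have hcT : (c : LyP) * T = T * c := Subgroup.mem_centralizer_singleton_iff.1 c.2
        rcases (hfk _).1 h1 with h2 | h2
        · have h3 : (c : LyP) * V0 * (c : LyP)⁻¹ * V0⁻¹ = 1 := h2
          exact mul_inv_eq_iff_eq_mul.1 (mul_inv_eq_one.1 h3)
        · exfalso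
          have h3 : (c : LyP) * V0 * (c : LyP)⁻¹ * V0⁻¹ = T := h2
          have h4 : ((c : LyP) * V0 * (c : LyP)⁻¹) ^ 3 = 1 := by
            rw [conj_pow, show V0 ^ 3 = 1 from vv_cube hLy (by norm_num), mul_one, mul_inv_cancel]
          rw [show (c : LyP) * V0 * (c : LyP)⁻¹ = T * V0 by rw [← h3]; group,
            (show Commute T V0 from (comm_T hLy (by norm_num)).symm).mul_pow,
            show V0 ^ 3 = 1 from vv_cube hLy (by norm_num), mul_one, pow_succ, pow_two, T_sq, one_mul] at h4
          exact T_ne h4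
      have hmem : (c : LyP) ∈ C := hC ▸ Subgroup.mem_centralizer_singleton_iff.2 hcv
      have hA : (⟨c, hmem⟩ : C) ∈ A := Subgroup.mem_centralizer_singleton_iff.2 (Subtype.ext (by
        rw [Subgroup.coe_mul, Subgroup.coe_mul, ht]
        exact Subgroup.mem_centralizer_singleton_iff.1 c.2))
      exact ⟨⟨⟨c, hmem⟩, hA⟩, by show f (ι _) = σ; rw [← hfc]; rfl⟩
  have hker : Nat.card F.ker = 2 := by
    rw [Nat.card_eq_two_iff' (1 : F.ker)]
    refine ⟨⟨⟨t, htA⟩, (hfk _).2 (Or.inr ht)⟩, fun h => T_ne ?_, ?_⟩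
    · have h' := congrArg (fun k : F.ker => (((k : A) : C) : LyP)) h
      simpa [ht] using h'
    · rintro ⟨a, ha'⟩ hne
      rcases (hfk _).1 ha' with h | h
      · exact absurd (Subtype.ext (Subtype.ext (Subtype.ext h))) hne
      · exact Subtype.ext (Subtype.ext (Subtype.ext (h.trans ht.symm)))
  have hcard : Nat.card A = 120960 := by
    rw [Subgroup.card_eq_card_quotient_mul_card_subgroup F.ker, hker,
      Nat.card_congr (QuotientGroup.quotientKerEquivRange F).toEquiv, hrange, card_C11]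
  have haA : a7 ∈ A := Subgroup.mem_centralizer_singleton_iff.2 (Subtype.ext (by
    rw [Subgroup.coe_mul, Subgroup.coe_mul, ha, ht]; exact aT))
  have hu : ∃ u ∈ A, u * u = t := by
    have hm : uE ∈ C := hC ▸ Subgroup.mem_centralizer_singleton_iff.2 uV
    refine ⟨⟨uE, hm⟩, Subgroup.mem_centralizer_singleton_iff.2 (Subtype.ext ?_), Subtype.ext (by rw [ht]; exact uu)⟩
    rw [Subgroup.coe_mul, Subgroup.coe_mul, ht, ← uu, mul_assoc]
  have main : ∀ L : Subgroup C, L ≤ A → Subgroup.zpowers v ≤ L → (∀ u ∈ A, ∀ l ∈ L, u * l * u⁻¹ ∈ L) →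
      L = A ∨ (a7 ∉ L ∧ ∀ l ∈ L, ∃ x ∈ Subgroup.zpowers v, l = x ∨ l = x * t) := by
    intro L hL hX hn
    have hc0 : c0 ∈ (L.subgroupOf A).map F :=
      ⟨⟨v, hvA⟩, hX (Subgroup.mem_zpowers v), hFv⟩
    have hn' : ∀ u ∈ C11, ∀ l ∈ (L.subgroupOf A).map F, u * l * u⁻¹ ∈ (L.subgroupOf A).map F := by
      rintro u hu' _ ⟨l, hl, rfl⟩
      obtain ⟨a, rfl⟩ := (hrange ▸ hu' : u ∈ F.range)
      exact ⟨a * l * a⁻¹, hn _ a.2 _ hl, by simp⟩
    have hle : (L.subgroupOf A).map F ≤ C11 := hrange ▸ Subgroup.map_le_range F _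
    rcases normal_cases _ hle hc0 hn' with h | h
    · left
      obtain ⟨u, huA, huu⟩ := hu
      have lift : ∀ a ∈ A, ∃ l ∈ L, a = l ∨ a = l * t := fun a ha' => by
        obtain ⟨l, hl, hle'⟩ := h.symm ▸ (hrange ▸ ⟨⟨a, ha'⟩, rfl⟩ : F ⟨a, ha'⟩ ∈ C11)
        exact ⟨l, hl, hFeq ⟨a, ha'⟩ l hle'.symm⟩
      have htL : t ∈ L := by
        obtain ⟨l, hl, h' | h'⟩ := lift u huA
        · rw [← huu, h']; exact mul_mem hl hl
        · have htt : t * t = 1 := Subtype.ext (by rw [Subgroup.coe_mul, ht]; exact T_sq)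
          have hlt : l * t = t * l := Subgroup.mem_centralizer_singleton_iff.1 (hL hl)
          have : l * l = t := by
            rw [← huu, h']
            calc l * l = l * l * (t * t) := by rw [htt, mul_one]
              _ = l * (l * t) * t := by group
              _ = l * (t * l) * t := by rw [hlt]
              _ = l * t * (l * t) := by group
          rw [← this]; exact mul_mem hl hl
      refine le_antisymm hL fun a ha' => ?_
      obtain ⟨l, hl, rfl | rfl⟩ := lift a ha'
      · exact hl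
      · exact mul_mem hl htL
    · right
      constructor
      · intro h7
        have hF7 := h (F ⟨a7, haA⟩) ⟨⟨a7, haA⟩, h7, rfl⟩
        obtain ⟨n, hn7⟩ := Subgroup.mem_zpowers_iff.1 hF7
        have e3 : F ⟨a7, haA⟩ ^ 3 = 1 := by
          rw [← hn7, ← zpow_natCast, ← zpow_mul, mul_comm, zpow_mul, zpow_natCast, c0_facts.2.2.1, one_zpow]
        have e7 : F ⟨a7, haA⟩ ^ 7 = 1 := by
          rw [← map_pow, show (⟨a7, haA⟩ : A) ^ 7 = 1 from Subtype.ext (Subtype.ext (by simpa [ha] using a7p)),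
            map_one]
        have e1 : F ⟨a7, haA⟩ = 1 := by
          have := pow_gcd_eq_one.2 ⟨e3, e7⟩
          simpa using this
        rcases (hfk _).1 e1 with e | e
        · exact a7n (ha ▸ e)
        · have e' : a7E = T := ha ▸ e
          rw [e', pow_succ, pow_succ, pow_succ, pow_succ, pow_succ, pow_two, T_sq, one_mul, T_sq, one_mul, T_sq,
            one_mul] at a7p
          exact T_ne a7p
      · intro l hl
        obtain ⟨n, hn'⟩ := Subgroup.mem_zpowers_iff.1 (h _ ⟨⟨l, hL hl⟩, hl, rfl⟩)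
        refine ⟨v ^ n, Subgroup.zpow_mem_zpowers v n, ?_⟩
        have he' : F ⟨l, hL hl⟩ = F (⟨v, hvA⟩ ^ n) := by rw [map_zpow, hFv]; exact hn'.symm
        simpa using hFeq _ _ he'
  refine ⟨hcard, fun L hL hX hn h7 => ?_, fun L hL hX hn h7 => ?_⟩
  · rcases main L hL hX hn with h | h
    · exact h
    · exact absurd h7 h.1
  · rcases main L hL hX hn with h | h
    · exact absurd (h.symm ▸ haA : a7 ∈ L) h7
    · exact h.2

end CfsgLib.Sporadic.CosetCert.LyThree
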