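import Cfsg.Agent.Lib.Sporadic.LyThree.Elements
import Cfsg.Agent.Lib.Sporadic.LyThree.Checks.Orb
import Cfsg.Agent.Lib.Sporadic.LyThree.Generic

/-!
# A subgroup of order divisible by 2187
-/

set_option autoImplicit false
set_option maxRecDepth 100000

namespace CfsgLib.Sporadic.CosetCert.LyThree

open LyIndex LyG2Five LyCent WideMatrix
open LyIndex.Wide (img unitRow good_num good_mat good_unit)

attribute [local instance] factPrimeFive

attribute [local irreducible] rep WideMatrix.mul okRows prodW oneW lane dec mA nSW nS0 nS1 gRoot otPts otPar otSucc vv gP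

/-- The generators of the orbit. -/
noncomputable def orbG (s : ℕ) : LyP := [V0, gP swWord, gP s0Word, gP s1Word].getD s 1

theorem means_orbG (hLy : Cfsg.IsLy LyP) : ∀ s < 4, Means (orbGens.getD s []) (orbG s) := by
  obtain ⟨m0, m1, mw, -⟩ := prod_facts hLy
  intro s hs
  interval_cases s
  · exact means_V0
  · exact mw
  · exact m0
  · exact m1

/-- The generated subgroup has order divisible by 2187. -/
theorem orbit_card (hLy : Cfsg.IsLy LyP) :
    2187 ∣ Nat.card (Subgroup.closure {g | ∃ s < 4, orbG s = g}) := by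
  have := finite_LyP hLy
  have hr := root_test
  simp only [rootTest, Bool.and_eq_true] at hr
  obtain ⟨⟨⟨okR, hr0⟩, hfV⟩, hfS⟩ := hr
  have h : ∀ t < 243, _ := fun t ht => by
    have h1 := List.all_eq_true.1 orbit_test t (List.mem_range.2 ht)
    simp only [otOne, Bool.and_eq_true, Bool.or_eq_true, List.all_eq_true, List.mem_range,
      Bool.not_eq_true'] at h1
    exact h1
  have okG : ∀ s < 4, okRows 111 (orbGens.getD s []) = true := fun s hs => (means_orbG hLy s hs).1
  set X0 : M111 := Matrix.single (⟨0, by norm_num⟩ : Fin 111) ⟨0, by norm_num⟩ (1 : ZMod 5) * md111 gRoot with hX0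
  have good0 : Good 111 (otPt 0) X0 := by
    rw [← Nat.eq_of_beq_eq_true hr0]
    exact (good_unit (by norm_num) (by norm_num)).mul (by norm_num) (by norm_num) okR
  have step : ∀ {t t' s : ℕ} {a : LyP}, s < 4 → Good 111 (otPt t) (X0 * (rep a).val) →
      Nat.beq (img 111 (otPt t) (orbGens.getD s [])) (otPt t') = true →
      Good 111 (otPt t') (X0 * (rep (a * orbG s)).val) := by
    intro t t' s a hs hg hb
    rw [map_mul, Units.val_mul, ← mul_assoc, (means_orbG hLy s hs).2, ← Nat.eq_of_beq_eq_true hb]
    exact hg.mul (by norm_num) (by norm_num) (okG s hs)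
  have reach : ∀ t < 243, ∃ a ∈ Subgroup.closure {g | ∃ s < 4, orbG s = g},
      Good 111 (otPt t) (X0 * (rep a).val) := by
    intro t
    induction t using Nat.strong_induction_on with
    | _ t ih =>
      intro ht
      rcases (h t ht).1.1 with h0 | ⟨⟨hp, hs⟩, hb⟩
      · refine ⟨1, one_mem _, ?_⟩
        rw [map_one, Units.val_one, mul_one, Nat.eq_of_beq_eq_true h0]
        exact good0
      · have hp' := Nat.le_of_ble_eq_true hp
        obtain ⟨a, ha, hga⟩ := ih _ hp' (lt_trans hp' ht)
        exact ⟨a * orbG _, mul_mem ha (Subgroup.subset_closure ⟨_, Nat.le_of_ble_eq_true hs, rfl⟩),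
          step (Nat.le_of_ble_eq_true hs) hga hb⟩
  choose a haS hag using fun t : Fin 243 => reach t t.2
  have fix : ∀ {s : ℕ}, s < 4 → Nat.beq (img 111 (otPt 0) (orbGens.getD s [])) (otPt 0) = true →
      X0 * (rep (orbG s)).val = X0 := by
    intro s hs hb
    have hg := step (a := 1) hs (by rw [map_one, Units.val_one, mul_one]; exact good0) hb
    rw [one_mul] at hg
    exact good_mat hg good0
  let St : Subgroup LyP :=
    { carrier := {x | X0 * (rep x).val = X0}
      one_mem' := by simp
      mul_mem' := fun {x y} hx hy => by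
        simp only [Set.mem_setOf_eq, map_mul, Units.val_mul] at hx hy ⊢
        rw [← mul_assoc, hx, hy]
      inv_mem' := fun {x} hx => by
        simp only [Set.mem_setOf_eq, map_inv] at hx ⊢
        conv_lhs => rw [← hx]
        rw [mul_assoc, Units.mul_inv, mul_one] }
  let K : Subgroup LyP := Subgroup.closure {V0, gP swWord}
  have hK : K ≤ Subgroup.closure {g | ∃ s < 4, orbG s = g} :=
    Subgroup.closure_mono fun g hg => by
      rcases hg with rfl | rfl
      · exact ⟨0, by norm_num, rfl⟩
      · exact ⟨1, by norm_num, rfl⟩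
  have hKfix : K ≤ St := (Subgroup.closure_le _).2 fun g hg => by
    rcases hg with rfl | rfl
    · exact fix (s := 0) (by norm_num) hfV
    · exact fix (s := 1) (by norm_num) hfS
  have h9 : 9 ∣ Nat.card K := by
    obtain ⟨-, -, -, w3, w1, wv, wvv, -, -⟩ := prod_facts hLy
    have hcomm : gP swWord * V0 = V0 * gP swWord := gP_comm hLy fun k hk => word_le k (by tauto)
    have hv3 : V0 ^ 3 = 1 := vv_cube hLy (by norm_num)
    have hcube : ∀ g ∈ K, g ^ 3 = 1 ∧ Commute g V0 ∧ Commute g (gP swWord) := by
      intro g hg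
      induction hg using Subgroup.closure_induction with
      | mem y hy =>
        rcases hy with rfl | rfl
        · exact ⟨hv3, Commute.refl _, hcomm.symm⟩
        · exact ⟨w3, hcomm, Commute.refl _⟩
      | one => exact ⟨one_pow _, Commute.one_left _, Commute.one_left _⟩
      | mul x y hx hy ihx ihy =>
        have hxy : Commute x y := by
          clear ihy
          induction hy using Subgroup.closure_induction with
          | mem z hz =>
            rcases hz with rfl | rfl
            · exact ihx.2.1
            · exact ihx.2.2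
          | one => exact Commute.one_right _
          | mul p q _ _ ihp ihq => exact ihp.mul_right ihq
          | inv p _ ihp => exact ihp.inv_right
        exact ⟨by rw [hxy.mul_pow, ihx.1, ihy.1, one_mul], ihx.2.1.mul_left ihy.2.1, ihx.2.2.mul_left ihy.2.2⟩
      | inv x _ ih => exact ⟨by rw [inv_pow, ih.1, inv_one], ih.2.1.inv_left, ih.2.2.inv_left⟩
    have : Fact (Nat.Prime 3) := ⟨Nat.prime_three⟩
    have hp : IsPGroup 3 K := fun g => ⟨1, Subtype.ext (by simpa using (hcube g g.2).1)⟩
    obtain ⟨n, hn⟩ := hp.exists_card_eq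
    have hlt : 3 < Nat.card K := by
      have hle : Subgroup.zpowers V0 ≤ K := Subgroup.zpowers_le.2 (Subgroup.subset_closure (Or.inl rfl))
      have hv1 : V0 ≠ 1 := by
        intro e
        exact vv_not_Z0 hLy 0 (mem_Z0.2 (Or.inl e))
      have hvo : orderOf V0 = 3 := orderOf_eq_prime hv3 hv1
      have h3 := Subgroup.card_le_of_le hle
      rw [Nat.card_zpowers, hvo] at h3
      refine lt_of_le_of_ne h3 fun e => ?_
      have heq : Subgroup.zpowers V0 = K :=
        Subgroup.eq_of_le_of_card_ge hle (by rw [← e, Nat.card_zpowers, hvo])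
      have hm : gP swWord ∈ Subgroup.zpowers V0 := heq ▸ Subgroup.subset_closure (Or.inr rfl)
      obtain ⟨m, hm⟩ := Subgroup.mem_zpowers_iff.1 hm
      rw [← zpow_mod_orderOf, hvo] at hm
      have : m % ((3 : ℕ) : ℤ) = 0 ∨ m % ((3 : ℕ) : ℤ) = 1 ∨ m % ((3 : ℕ) : ℤ) = 2 := by omega
      rcases this with e' | e' | e' <;> rw [e'] at hm
      · exact w1 (by simpa using hm.symm)
      · exact wv (by simpa using hm.symm)
      · exact wvv (by simpa [zpow_two, pow_two] using hm.symm)
    rw [hn] at hlt ⊢
    have : 2 ≤ n := by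
      by_contra hc
      have := Nat.pow_le_pow_right (show 0 < 3 by norm_num) (show n ≤ 1 by omega)
      omega
    exact (show 9 = 3 ^ 2 by norm_num) ▸ pow_dvd_pow 3 this
  have hd := orbit_dvd (fun (p : M111) (g : LyP) => p * (rep g).val) (fun p => by simp)
    (fun p x y => by simp [mul_assoc]) {g | ∃ s < 4, orbG s = g} X0 (fun t : Fin 243 => X0 * (rep (a t)).val)
    ?_ ⟨⟨0, by norm_num⟩, good_mat (hag _) good0⟩ (fun t => ⟨a t, haS t, rfl⟩) ?_ K hK (fun k hk => hKfix hk)
  · exact (show 2187 = 243 * 9 by norm_num) ▸ (Nat.mul_dvd_mul_left 243 h9).trans hd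
  · intro t t' e
    have e' : otPt t = otPt t' := good_num (by norm_num) (hag t) (show Good 111 (otPt t') (X0 * (rep (a t)).val) by
      rw [show X0 * (rep (a t)).val = X0 * (rep (a t')).val from e]; exact hag t')
    rcases lt_trichotomy (t : ℕ) t' with hl | hl | hl
    · have := (h t' t'.2).2 t hl
      rw [e', Nat.beq_refl] at this
      exact absurd this (by decide)
    · exact Fin.ext hl
    · have := (h t t.2).2 t' hl
      rw [← e', Nat.beq_refl] at this
      exact absurd this (by decide)
  · rintro _ ⟨s, hs, rfl⟩ t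
    obtain ⟨hlt, hb⟩ := (h t t.2).1.2 s hs
    refine ⟨⟨_, Nat.le_of_ble_eq_true hlt⟩, ?_⟩
    have hg := step hs (hag t) hb
    rw [map_mul, Units.val_mul, ← mul_assoc] at hg
    exact good_mat hg (hag ⟨_, Nat.le_of_ble_eq_true hlt⟩)

end CfsgLib.Sporadic.CosetCert.LyThree
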