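import Cfsg.Agent.Lib.Sporadic.LyThree.Generic
import Cfsg.Prelude.Def_Sporadic

/-!
# Simplicity of a group modulo a central subgroup of order three from an involution centraliser

The group has order `2694384000`, the centraliser of the involution has order `120960` and few normal
subgroups, and a subgroup of odd index containing it that is normal is the whole group.
-/

set_option autoImplicit false

namespace CfsgLib.Sporadic.CosetCert.LyThree

/-- The index in a normal subgroup divides the index. -/
theorem relIndex_dvd_index {C : Type*} [Group C] [Finite C] (A N : Subgroup C) [N.Normal] :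
    A.relIndex N ∣ A.index := by
  obtain ⟨e, he⟩ := Subgroup.relIndex_dvd_index_of_normal N A
  have h1 := Subgroup.relIndex_mul_index (inf_le_right : A ⊓ N ≤ N)
  have h2 := Subgroup.relIndex_mul_index (inf_le_left : A ⊓ N ≤ A)
  rw [Subgroup.inf_relIndex_right] at h1
  rw [Subgroup.inf_relIndex_left, ← h1, he] at h2
  refine ⟨e, Nat.eq_of_mul_eq_mul_left (Nat.pos_of_ne_zero Subgroup.index_ne_zero_of_finite : 0 < N.relIndex A) ?_⟩
  rw [h2]
  ring

/-- The centre is the given subgroup and the quotient is simple of order `898128000`. -/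
theorem center_quotient {C : Type*} [Group C] [Finite C] (X : Subgroup C) (hX : Nat.card X = 3)
    (hXc : X ≤ Subgroup.center C) (t : C) (ht : t * t = 1) (ht1 : t ≠ 1) (a7 : C) (ha7 : orderOf a7 = 7)
    (ha7t : a7 * t = t * a7) (hC : Nat.card C = 2694384000)
    (hA : Nat.card (Subgroup.centralizer ({t} : Set C)) = 120960)
    (hAfull : ∀ L : Subgroup C, L ≤ Subgroup.centralizer ({t} : Set C) → X ≤ L →
      (∀ u ∈ Subgroup.centralizer ({t} : Set C), ∀ l ∈ L, u * l * u⁻¹ ∈ L) → a7 ∈ L →
      L = Subgroup.centralizer ({t} : Set C))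
    (hAsmall : ∀ L : Subgroup C, L ≤ Subgroup.centralizer ({t} : Set C) → X ≤ L →
      (∀ u ∈ Subgroup.centralizer ({t} : Set C), ∀ l ∈ L, u * l * u⁻¹ ∈ L) → a7 ∉ L →
      ∀ l ∈ L, ∃ x ∈ X, l = x ∨ l = x * t)
    (hgen : ∀ N : Subgroup C, N.Normal → Odd N.index → Subgroup.centralizer ({t} : Set C) ≤ N → N = ⊤) :
    Nat.card (Subgroup.center C) = 3 ∧ Cfsg.IsMcL (C ⧸ Subgroup.center C) := by
  classical
  set A := Subgroup.centralizer ({t} : Set C) with hAdef
  have hXA : X ≤ A := fun x hx =>
    Subgroup.mem_centralizer_singleton_iff.2 (Subgroup.mem_center_iff.1 (hXc hx) t).symm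
  have htA : t ∈ A := Subgroup.mem_centralizer_singleton_iff.2 rfl
  have ha7A : a7 ∈ A := Subgroup.mem_centralizer_singleton_iff.2 ha7t
  have hto : orderOf t = 2 := by
    have : Fact (Nat.Prime 2) := ⟨Nat.prime_two⟩
    exact orderOf_eq_prime (by rw [pow_two, ht]) ht1
  have hAidx : A.index = 22275 := by
    have h := A.index_mul_card
    rw [hA, hC] at h
    omega
  have hAtop : A ≠ ⊤ := fun e => by rw [e, Subgroup.index_top] at hAidx; omega
  have small : ∀ N : Subgroup C, N.Normal → X ≤ N → N ⊓ A = X → N = X := by
    intro N hN hXN hNA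
    have hrel : A.relIndex N ∣ 22275 := by
      rw [← hAidx]
      exact relIndex_dvd_index A N
    have hcard : Nat.card N ∣ 66825 := by
      have h1 := (A.subgroupOf N).index_mul_card
      have h2 : Nat.card (A.subgroupOf N) = 3 := by
        rw [← hX, ← hNA, inf_comm N A]
        exact Nat.card_congr
          ((MulEquiv.subgroupCongr (Subgroup.inf_subgroupOf_right A N).symm).trans
            (Subgroup.subgroupOfEquivOfLe (inf_le_right : A ⊓ N ≤ N))).toEquiv
      rw [h2] at h1
      rw [← h1]
      exact (Nat.mul_dvd_mul_right hrel 3)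
    have hcent : ∀ n ∈ N, a7 * n = n * a7 := by
      have hD : ∀ p : ℕ, p.Prime → p ^ (Nat.card N).factorization p ∣
          Nat.card (N ⊓ Subgroup.centralizer ({a7} : Set C) : Subgroup C) := by
        intro p hp
        rcases Nat.eq_zero_or_pos ((Nat.card N).factorization p) with h0 | h0
        · rw [h0, pow_zero]; exact one_dvd _
        have : Fact p.Prime := ⟨hp⟩
        have : Fact (Nat.Prime 7) := ⟨by decide⟩
        let φ : Subgroup.zpowers a7 →* MulAut N :=
          (MulAut.conjNormal (H := N)).comp (Subgroup.zpowers a7).subtype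
        letI : MulAction (Subgroup.zpowers a7) (Sylow p N) := MulAction.compHom (Sylow p N) φ
        have hP : IsPGroup 7 (Subgroup.zpowers a7) :=
          IsPGroup.of_card (n := 1) (by rw [Nat.card_zpowers, ha7, pow_one])
        have hnd : ¬ 7 ∣ Nat.card (Sylow p N) := fun h => by
          obtain ⟨Q⟩ : Nonempty (Sylow p N) := inferInstance
          have := h.trans ((Q.card_eq_index_normalizer.dvd).trans ((Subgroup.index_dvd_card _).trans hcard))
          omega
        obtain ⟨Q, hQ⟩ := hP.nonempty_fixed_point_of_prime_not_dvd_card (Sylow p N) hnd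
        have hnorm : ∀ q ∈ (Q : Subgroup N).map N.subtype, a7 * q * a7⁻¹ ∈ (Q : Subgroup N).map N.subtype := by
          rintro _ ⟨q, hq, rfl⟩
          have e : (φ ⟨a7, Subgroup.mem_zpowers a7⟩) • Q = Q := hQ ⟨a7, Subgroup.mem_zpowers a7⟩
          refine ⟨(φ ⟨a7, Subgroup.mem_zpowers a7⟩) q, ?_, ?_⟩
          · rw [SetLike.mem_coe, ← e]
            exact Subgroup.smul_mem_pointwise_smul q _ _ hq
          · exact MulAut.conjNormal_apply a7 q
        have hQc : Nat.card ((Q : Subgroup N).map N.subtype) = p ^ (Nat.card N).factorization p := by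
          rw [Subgroup.card_map_of_injective N.subtype_injective]
          exact Q.card_eq_multiplicity
        have hpd : p ^ (Nat.card N).factorization p ∣ 66825 := (Nat.ordProj_dvd _ _).trans hcard
        have hp' : p = 3 ∨ p = 5 ∨ p = 11 := by
          have h1 : p ∣ 66825 := (dvd_pow_self p (by omega)).trans hpd
          have h2 : p ∈ Nat.primeFactors 66825 := Nat.mem_primeFactors.2 ⟨hp, h1, by norm_num⟩
          have h3 : Nat.primeFactors 66825 ⊆ {3, 5, 11} := by
            intro r hr
            obtain ⟨hr1, hr2, -⟩ := Nat.mem_primeFactors.1 hr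
            rw [show (66825 : ℕ) = 3 ^ 5 * 5 ^ 2 * 11 by norm_num] at hr2
            rcases hr1.dvd_mul.1 hr2 with h | h
            · rcases hr1.dvd_mul.1 h with h | h
              · simp [(Nat.prime_dvd_prime_iff_eq hr1 Nat.prime_three).1 (hr1.dvd_of_dvd_pow h)]
              · simp [(Nat.prime_dvd_prime_iff_eq hr1 (by norm_num)).1 (hr1.dvd_of_dvd_pow h)]
            · simp [(Nat.prime_dvd_prime_iff_eq hr1 (by norm_num)).1 h]
          simpa using h3 h2
        have hcen := centralizes a7 ha7 _ hnorm hp hQc
          (fun h => by rw [hQc] at h; have := h.trans hpd; omega)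
          (fun d hd1 hd2 => by
            have hdd : p ^ d ∣ 66825 := (pow_dvd_pow p hd2).trans hpd
            rcases hp' with rfl | rfl | rfl
            · have : d ≤ 5 := by
                by_contra h
                exact absurd ((pow_dvd_pow 3 (show 6 ≤ d by omega)).trans hdd) (by norm_num)
              interval_cases d <;> norm_num
            · have : d ≤ 2 := by
                by_contra h
                exact absurd ((pow_dvd_pow 5 (show 3 ≤ d by omega)).trans hdd) (by norm_num)
              interval_cases d <;> norm_num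
            · have : d ≤ 1 := by
                by_contra h
                exact absurd ((pow_dvd_pow 11 (show 2 ≤ d by omega)).trans hdd) (by norm_num)
              interval_cases d <;> norm_num)
        rw [← hQc]
        refine Subgroup.card_dvd_of_le fun q hq => ⟨?_, ?_⟩
        · obtain ⟨r, -, rfl⟩ := hq
          exact r.2
        · exact Subgroup.mem_centralizer_singleton_iff.2 (hcen q hq).symm
      have hle : Nat.card N ∣ Nat.card (N ⊓ Subgroup.centralizer ({a7} : Set C) : Subgroup C) :=
        (Nat.dvd_iff_prime_pow_dvd_dvd _ _).2 fun p k hp hk =>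
          (pow_dvd_pow p ((hp.pow_dvd_iff_le_factorization Nat.card_pos.ne').1 hk)).trans (hD p hp)
      intro n hn
      have heq : (N ⊓ Subgroup.centralizer ({a7} : Set C) : Subgroup C) = N :=
        Subgroup.eq_of_le_of_card_ge inf_le_left (Nat.le_of_dvd Nat.card_pos hle)
      rw [← heq] at hn
      exact (Subgroup.mem_centralizer_singleton_iff.1 hn.2).symm
    let L := A ⊓ Subgroup.centralizer (N : Set C)
    have hXL : X ≤ L := le_inf hXA fun x hx =>
      Subgroup.mem_centralizer_iff.2 fun n _ => Subgroup.mem_center_iff.1 (hXc hx) n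
    have hLn : ∀ u ∈ A, ∀ l ∈ L, u * l * u⁻¹ ∈ L := by
      intro u hu l hl
      refine ⟨(mul_mem (mul_mem hu hl.1) (inv_mem hu) : u * l * u⁻¹ ∈ A), Subgroup.mem_centralizer_iff.2 fun n hn => ?_⟩
      have h := Subgroup.mem_centralizer_iff.1 hl.2 (u⁻¹ * n * u) (by
        have := hN.conj_mem n hn u⁻¹
        rwa [inv_inv] at this)
      calc n * (u * l * u⁻¹) = u * (u⁻¹ * n * u * l) * u⁻¹ := by group
        _ = u * (l * (u⁻¹ * n * u)) * u⁻¹ := by rw [h]
        _ = u * l * u⁻¹ * n := by group
    have hL := hAfull L inf_le_left hXL hLn ⟨ha7A, Subgroup.mem_centralizer_iff.2 fun n hn => (hcent n hn).symm⟩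
    refine le_antisymm (fun n hn => ?_) hXN
    rw [← hNA]
    refine ⟨hn, Subgroup.mem_centralizer_singleton_iff.2 ?_⟩
    have : t ∈ L := hL.symm ▸ htA
    exact Subgroup.mem_centralizer_iff.1 this.2 n hn
  have cases : ∀ N : Subgroup C, N.Normal → X ≤ N → N = X ∨ N = ⊤ := by
    intro N hN hXN
    have hconj : ∀ u ∈ A, ∀ l ∈ N ⊓ A, u * l * u⁻¹ ∈ N ⊓ A := fun u hu l hl =>
      ⟨hN.conj_mem l hl.1 u, (mul_mem (mul_mem hu hl.2) (inv_mem hu) : u * l * u⁻¹ ∈ A)⟩
    by_cases h7 : a7 ∈ N
    · refine Or.inr (hgen N hN ?_ ?_)
      · have hL := hAfull (N ⊓ A) inf_le_right (le_inf hXN hXA) hconj ⟨h7, ha7A⟩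
        have h := Subgroup.index_dvd_of_le (show A ≤ N by rw [← hL]; exact inf_le_left)
        rw [hAidx] at h
        exact Odd.of_dvd_nat (by decide) h
      · have hL := hAfull (N ⊓ A) inf_le_right (le_inf hXN hXA) hconj ⟨h7, ha7A⟩
        rw [← hL]; exact inf_le_left
    · refine Or.inl ?_
      have hsm := hAsmall (N ⊓ A) inf_le_right (le_inf hXN hXA) hconj fun h => h7 h.1
      have noT : ∀ M : Subgroup C, M.Normal → X ≤ M → M ≤ N → t ∉ M → M = X := by
        intro M hM hXM hMN htM
        refine small M hM hXM (le_antisymm (fun l hl => ?_) (le_inf hXM hXA))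
        obtain ⟨x, hx, rfl | rfl⟩ := hsm l ⟨hMN hl.1, hl.2⟩
        · exact hx
        · exact absurd ((mul_mem_cancel_left (hXM hx)).1 hl.1) htM
      by_contra hne
      have htN : t ∈ N := by
        by_contra h
        exact hne (noT N hN hXN le_rfl h)
      let O : Subgroup C := Subgroup.closure {g | g ∈ N ∧ Odd (orderOf g)}
      have hON : O ≤ N := (Subgroup.closure_le _).2 fun g hg => hg.1
      have hOn : O.Normal := ⟨fun o ho g => by
        induction ho using Subgroup.closure_induction with
        | mem y hy =>
          refine Subgroup.subset_closure ⟨hN.conj_mem y hy.1 g, ?_⟩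
          have e : orderOf (g * y * g⁻¹) = orderOf y := by
            rw [← MulAut.conj_apply]
            exact orderOf_injective (MulAut.conj g).toMonoidHom (MulAut.conj g).injective y
          rw [e]
          exact hy.2
        | one => simp
        | mul a b _ _ iha ihb =>
          rw [show g * (a * b) * g⁻¹ = g * a * g⁻¹ * (g * b * g⁻¹) by group]
          exact mul_mem iha ihb
        | inv a _ iha =>
          rw [show g * a⁻¹ * g⁻¹ = (g * a * g⁻¹)⁻¹ by group]
          exact inv_mem iha⟩
      have hx3 : ∀ x ∈ X, x ^ 3 = 1 := fun x hx => by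
        have h := pow_card_eq_one' (x := (⟨x, hx⟩ : X))
        rw [hX] at h
        exact congrArg Subtype.val h
      have hXO : X ≤ O := fun x hx => Subgroup.subset_closure ⟨hXN hx,
        Odd.of_dvd_nat (by decide) (orderOf_dvd_of_pow_eq_one (hx3 x hx))⟩
      have hrel : A.relIndex N ∣ 22275 := by
        rw [← hAidx]
        exact relIndex_dvd_index A N
      let S : Set C := (X : Set C) ∪ (fun x => x * t) '' (X : Set C)
      have hNA : Nat.card (A.subgroupOf N) = 6 := by
        have e : ((N ⊓ A : Subgroup C) : Set C) = S := by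
          ext l
          constructor
          · intro hl
            obtain ⟨x, hx, rfl | rfl⟩ := hsm l hl
            · exact Or.inl hx
            · exact Or.inr ⟨x, hx, rfl⟩
          · rintro (hl | ⟨x, hx, rfl⟩)
            · exact ⟨hXN hl, hXA hl⟩
            · exact ⟨mul_mem (hXN hx) htN, mul_mem (hXA hx) htA⟩
        have hdis : Disjoint (X : Set C) ((fun x => x * t) '' (X : Set C)) := by
          rw [Set.disjoint_left]
          rintro _ hx ⟨y, hy, rfl⟩
          have htX : t ∈ X := (mul_mem_cancel_left hy).1 hx
          have h := hx3 t htX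
          rw [pow_succ, pow_two, ht, one_mul] at h
          exact ht1 h
        have h1 : (X : Set C).ncard = 3 := hX
        rw [← Subgroup.inf_subgroupOf_left, Nat.card_congr (Subgroup.subgroupOfEquivOfLe inf_le_left).toEquiv,
          ← SetLike.coe_sort_coe, Nat.card_coe_set_eq, e, Set.ncard_union_eq hdis (Set.toFinite _) (Set.toFinite _),
          Set.ncard_image_of_injective _ (mul_left_injective t), h1]
      have hcardN : Nat.card N = A.relIndex N * 6 := by
        rw [← hNA]
        exact (A.subgroupOf N).index_mul_card.symm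
      have hodd : Odd (A.relIndex N) := Odd.of_dvd_nat (by decide) hrel
      have : Fact (Nat.Prime 2) := ⟨Nat.prime_two⟩
      let tN : N := ⟨t, htN⟩
      have htNo : orderOf tN = 2 := by rw [← Subgroup.orderOf_coe]; exact hto
      have hfac : (Nat.card N).factorization 2 = 1 := by
        obtain ⟨m, hm⟩ := hodd
        have e : Nat.card N = 2 ^ 1 * (3 * (2 * m + 1)) := by rw [hcardN, hm]; ring
        rw [e, Nat.factorization_mul (by norm_num) (by omega), Finsupp.add_apply,
          Nat.factorization_eq_zero_of_not_dvd (show ¬ 2 ∣ 3 * (2 * m + 1) by omega)]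
        simp [Nat.Prime.factorization_self Nat.prime_two]
      let P : Sylow 2 N := Sylow.ofCard (Subgroup.zpowers tN) (by rw [Nat.card_zpowers, htNo, hfac, pow_one])
      have hPc : Nat.card (P : Subgroup N) = 2 := by
        show Nat.card (Subgroup.zpowers tN) = 2
        rw [Nat.card_zpowers, htNo]
      have hP : Subgroup.normalizer ((P : Subgroup N) : Set N) ≤ Subgroup.centralizer ((P : Subgroup N) : Set N) := by
        intro g hg
        rw [Subgroup.mem_centralizer_iff]
        intro h hh
        have h2 := Nat.card_eq_two_iff' (1 : (P : Subgroup N))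
        obtain ⟨u, -, hu⟩ := h2.1 hPc
        by_cases h1 : h = 1
        · rw [h1, one_mul, mul_one]
        · have e1 := hu ⟨h, hh⟩ fun e => h1 (congrArg Subtype.val e)
          have hc : g * h * g⁻¹ ∈ (P : Subgroup N) := (Subgroup.mem_normalizer_iff.1 hg h).1 hh
          have e2 := hu ⟨g * h * g⁻¹, hc⟩ fun e => h1 (by
            have e' : g * h * g⁻¹ = 1 := congrArg Subtype.val e
            exact conj_eq_one_iff.1 e')
          have e3 : g * h * g⁻¹ = h := congrArg Subtype.val (e2.trans e1.symm)
          calc h * g = g * h * g⁻¹ * g := by rw [e3]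
            _ = g * h := by group
      let K := (MonoidHom.transferSylow P hP).ker
      have hKc : Nat.card K * 2 = Nat.card N := by
        rw [← hPc]
        exact (MonoidHom.ker_transferSylow_isComplement' P hP).card_mul
      have hKodd : Odd (Nat.card K) := by
        obtain ⟨m, hm⟩ := hodd
        rw [hcardN, hm] at hKc
        exact ⟨3 * m + 1, by omega⟩
      have hOK : O ≤ K.map N.subtype := by
        refine (Subgroup.closure_le _).2 fun g hg => ⟨⟨g, hg.1⟩, ?_, rfl⟩
        show MonoidHom.transferSylow P hP ⟨g, hg.1⟩ = 1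
        refine orderOf_eq_one_iff.1 (Nat.eq_one_of_dvd_coprimes (a := 2) (b := orderOf g) ?_ ?_ ?_)
        · exact (Nat.coprime_two_left).2 hg.2
        · exact (orderOf_dvd_natCard _).trans (dvd_of_eq hPc)
        · exact (orderOf_map_dvd _ _).trans (dvd_of_eq (Subgroup.orderOf_coe _).symm)
      have htO : t ∉ O := fun h => by
        obtain ⟨r, hr, e⟩ := hOK h
        have h2 : orderOf (⟨r, hr⟩ : K) ∣ Nat.card K := orderOf_dvd_natCard _
        rw [← Subgroup.orderOf_coe] at h2
        change orderOf r ∣ Nat.card K at h2
        rw [← Subgroup.orderOf_coe, show (r : C) = t from e, hto] at h2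
        exact (Nat.not_even_iff_odd.2 hKodd) (even_iff_two_dvd.2 h2)
      have hOX := noT O hOn hXO hON htO
      have hKX : K.map N.subtype ≤ X := by
        rintro _ ⟨r, hr, rfl⟩
        rw [← hOX]
        refine Subgroup.subset_closure ⟨r.2, ?_⟩
        have h2 : orderOf (⟨r, hr⟩ : K) ∣ Nat.card K := orderOf_dvd_natCard _
        rw [← Subgroup.orderOf_coe] at h2
        change orderOf r ∣ Nat.card K at h2
        rw [← Subgroup.orderOf_coe] at h2
        exact Odd.of_dvd_nat hKodd h2
      have hd : A.relIndex N = 1 := by
        have h := Subgroup.card_le_of_le hKX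
        rw [Subgroup.card_map_of_injective N.subtype_injective, hX] at h
        have : 0 < A.relIndex N := hodd.pos
        omega
      have hNle : N ≤ A := Subgroup.relIndex_eq_one.1 hd
      have htc : ∀ g : C, g * t = t * g := by
        intro g
        have hm := hN.conj_mem t htN g
        obtain ⟨x, hx, e | e⟩ := hsm _ ⟨hm, hNle hm⟩
        · exfalso
          have h3 := hx3 x hx
          rw [← e, conj_pow, conj_eq_one_iff, pow_succ, pow_two, ht, one_mul] at h3
          exact ht1 h3
        · have hx2 : x * x = 1 := by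
            have h1 : g * t * g⁻¹ * (g * t * g⁻¹) = 1 := by
              calc g * t * g⁻¹ * (g * t * g⁻¹) = g * (t * t) * g⁻¹ := by group
                _ = 1 := by rw [ht]; group
            rw [e] at h1
            calc x * x = x * x * (t * t) := by rw [ht, mul_one]
              _ = x * t * (x * t) := by
                have hxt : t * x = x * t := Subgroup.mem_center_iff.1 (hXc hx) t
                calc x * x * (t * t) = x * (x * t) * t := by group
                  _ = x * (t * x) * t := by rw [hxt]
                  _ = x * t * (x * t) := by group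
              _ = 1 := h1
          have hx1 : x = 1 := by
            have h3 := hx3 x hx
            rwa [pow_succ, pow_two, hx2, one_mul] at h3
          rw [hx1, one_mul] at e
          calc g * t = g * t * g⁻¹ * g := by group
            _ = t * g := by rw [e]
      exact hAtop ((Subgroup.eq_top_iff' _).2 fun g => Subgroup.mem_centralizer_singleton_iff.2 (htc g))
  have hcen : Subgroup.center C = X := (cases _ inferInstance hXc).resolve_right fun h =>
    hAtop ((Subgroup.eq_top_iff' _).2 fun g => Subgroup.mem_centralizer_singleton_iff.2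
      (Subgroup.mem_center_iff.1 (show g ∈ Subgroup.center C by rw [h]; exact Subgroup.mem_top _) t).symm)
  have hquot : Nat.card (C ⧸ Subgroup.center C) = 898128000 := by
    have h := Subgroup.card_eq_card_quotient_mul_card_subgroup (Subgroup.center C)
    rw [hC] at h
    have h2 : Nat.card (Subgroup.center C) = 3 := by rw [hcen, hX]
    rw [h2] at h
    omega
  refine ⟨by rw [hcen, hX], ?_, hquot⟩
  have : Nontrivial (C ⧸ Subgroup.center C) := Finite.one_lt_card_iff_nontrivial.1 (by rw [hquot]; norm_num)
  refine ⟨fun H hH => ?_⟩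
  have hle : X ≤ H.comap (QuotientGroup.mk' (Subgroup.center C)) := fun x hx => by
    rw [Subgroup.mem_comap, QuotientGroup.mk'_apply, (QuotientGroup.eq_one_iff x).2 (hXc hx)]
    exact one_mem H
  rcases cases _ (hH.comap _) hle with h | h
  · refine Or.inl ((Subgroup.eq_bot_iff_forall _).2 fun q hq => ?_)
    obtain ⟨g, rfl⟩ := QuotientGroup.mk_surjective q
    have hg : g ∈ X := h ▸ hq
    exact (QuotientGroup.eq_one_iff g).2 (hXc hg)
  · refine Or.inr ((Subgroup.eq_top_iff' _).2 fun q => ?_)
    obtain ⟨g, rfl⟩ := QuotientGroup.mk_surjective q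
    exact (h.symm ▸ Subgroup.mem_top g : g ∈ H.comap (QuotientGroup.mk' (Subgroup.center C)))

end CfsgLib.Sporadic.CosetCert.LyThree
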