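import Cfsg.Agent.Lib.Sporadic.LyThree.Transport
import Cfsg.Agent.Lib.Sporadic.LyThree.Local
import Cfsg.Agent.Lib.Sporadic.LyThree.Orbit
import Cfsg.Agent.Lib.Sporadic.LyThree.Simple

/-!
# A centraliser of an element of order three in the presented Lyons group is a triple cover of a simple group
-/

set_option autoImplicit false
set_option maxRecDepth 100000

namespace CfsgLib.Sporadic.CosetCert.LyThree

open LyIndex LyG2Five LyCent

attribute [local instance] factPrimeFive

attribute [local irreducible] rep vv uE a7E gP gg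

/-- In a group of odd order a real element is trivial. -/
theorem real_odd {Q : Type*} [Group Q] [Finite Q] (hQ : Odd (Nat.card Q)) {a h : Q} (e : h * a * h⁻¹ = a⁻¹) :
    a = 1 := by
  have e2 : h ^ 2 * a * (h ^ 2)⁻¹ = a := by
    calc h ^ 2 * a * (h ^ 2)⁻¹ = h * (h * a * h⁻¹) * h⁻¹ := by rw [pow_two, mul_inv_rev]; group
      _ = h * a⁻¹ * h⁻¹ := by rw [e]
      _ = (h * a * h⁻¹)⁻¹ := by group
      _ = a := by rw [e, inv_inv]
  obtain ⟨m, hm⟩ := hQ
  have hh : h = (h ^ 2) ^ (m + 1) := by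
    rw [← pow_mul, show 2 * (m + 1) = Nat.card Q + 1 by omega, pow_succ, pow_card_eq_one', one_mul]
  have hc : Commute (h ^ 2) a := mul_inv_eq_iff_eq_mul.1 e2
  have hha : Commute h a := by rw [hh]; exact hc.pow_left _
  rw [hha.eq, mul_inv_cancel_right] at e
  have ha2 : a ^ 2 = 1 := by rw [pow_two]; exact mul_eq_one_iff_eq_inv.2 e
  have : (2 : ℕ).Coprime (Nat.card Q) := Nat.coprime_two_left.2 ⟨m, hm⟩
  exact orderOf_eq_one_iff.1 (Nat.eq_one_of_dvd_coprimes this (orderOf_dvd_of_pow_eq_one ha2) (orderOf_dvd_natCard a))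

theorem pow_eight_odd {Q : Type*} [Group Q] [Finite Q] (hQ : Odd (Nat.card Q)) {a : Q} (e : a ^ 8 = 1) :
    a = 1 := by
  have : (8 : ℕ).Coprime (Nat.card Q) := by
    rw [show (8 : ℕ) = 2 ^ 3 by norm_num]
    exact Nat.Coprime.pow_left 3 (Nat.coprime_two_left.2 hQ)
  exact orderOf_eq_one_iff.1 (Nat.eq_one_of_dvd_coprimes this (orderOf_dvd_of_pow_eq_one e) (orderOf_dvd_natCard a))

theorem mcl_centraliser (hLy : Cfsg.IsLy LyP) :
    orderOf V0 = 3 ∧ Nat.card (Subgroup.center (Subgroup.centralizer ({V0} : Set LyP))) = 3 ∧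
      Cfsg.IsMcL ((Subgroup.centralizer ({V0} : Set LyP)) ⧸
        Subgroup.center (Subgroup.centralizer ({V0} : Set LyP))) := by
  classical
  have := finite_LyP hLy
  have : Fact (Nat.Prime 3) := ⟨Nat.prime_three⟩
  have hv3 : V0 ^ 3 = 1 := vv_cube hLy (by norm_num)
  have hv1 : V0 ≠ 1 := fun e => vv_not_Z0 hLy 0 (mem_Z0.2 (Or.inl e))
  have hvo : orderOf V0 = 3 := orderOf_eq_prime hv3 hv1
  obtain ⟨-, uV, uu, aV, aT, a7p, a7n⟩ := small_facts hLy
  have memC : ∀ {x : LyP}, x * V0 = V0 * x → x ∈ Cv := fun h => Subgroup.mem_centralizer_singleton_iff.2 h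
  let v : Cv := ⟨V0, memC rfl⟩
  let t : Cv := ⟨T, memC (comm_T hLy (show 0 < 9 by norm_num)).symm⟩
  let a7 : Cv := ⟨a7E, memC aV⟩
  obtain ⟨hA, hfull, hsmall⟩ := local_facts hLy (C := Cv) rfl v t a7 rfl rfl rfl
  have hta : orderOf a7 = 7 := by
    have : Fact (Nat.Prime 7) := ⟨by norm_num⟩
    rw [← Subgroup.orderOf_coe]
    exact orderOf_eq_prime a7p a7n
  -- the subgroup generated by the known elements
  have key : ∀ N : Subgroup Cv, N.Normal → Odd N.index → Subgroup.centralizer ({t} : Set Cv) ≤ N →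
      2694384000 ∣ Nat.card N := by
    intro N hN hodd hAN
    have hQ : Odd (Nat.card (Cv ⧸ N)) := hodd
    have h8 : ∀ x : Cv, x ^ 8 = 1 → x ∈ N := fun x hx => (QuotientGroup.eq_one_iff x).1
      (pow_eight_odd hQ (by rw [← QuotientGroup.mk_pow, hx, QuotientGroup.mk_one]))
    have hreal : ∀ a h : Cv, h * a * h⁻¹ = a⁻¹ → a ∈ N := fun a h e => (QuotientGroup.eq_one_iff a).1
      (real_odd hQ (h := (h : Cv ⧸ N)) (by
        rw [← QuotientGroup.mk_inv, ← QuotientGroup.mk_mul, ← QuotientGroup.mk_mul, e, QuotientGroup.mk_inv]))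
    let M : Subgroup LyP := N.map Cv.subtype
    have hcard : Nat.card M = Nat.card N := Subgroup.card_map_of_injective Cv.subtype_injective
    have hvA : v ∈ N := hAN (Subgroup.mem_centralizer_singleton_iff.2
      (Subtype.ext (comm_T hLy (show 0 < 9 by norm_num))))
    have hgg : ∀ k ≤ 12, gg k ∈ M := fun k hk => by
      rcases Nat.lt_or_ge k 12 with h | h
      · exact ⟨⟨gg k, memC (gg_comm hLy (by omega))⟩, h8 _ (Subtype.ext (gg_pow hLy h)), rfl⟩
      · rw [show k = 12 by omega, gg_last]; exact ⟨v, hvA, rfl⟩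
    have hgP : ∀ w : List ℕ, (∀ k ∈ w, k ≤ 12) → gP w ∈ M := fun w hw => by
      unfold gP
      exact Subgroup.list_prod_mem M fun x hx => by
        obtain ⟨k, hk, rfl⟩ := List.mem_map.1 hx
        exact hgg k (hw k hk)
    have d3 : 2187 ∣ Nat.card N := by
      rw [← hcard]
      refine (orbit_card hLy).trans (Subgroup.card_dvd_of_le ((Subgroup.closure_le _).2 ?_))
      rintro _ ⟨s, hs, rfl⟩
      interval_cases s
      · exact ⟨v, hvA, rfl⟩
      · exact hgP swWord fun k hk => word_le k (by tauto)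
      · exact hgP s0Word fun k hk => word_le k (by tauto)
      · exact hgP s1Word fun k hk => word_le k (by tauto)
    have d5 : 125 ∣ Nat.card N := by
      rw [← hcard]
      obtain ⟨a, b, ha, hb, ea, eb, hd⟩ := five_Cv hLy
      refine hd.trans (Subgroup.card_dvd_of_le ((Subgroup.closure_le _).2 ?_))
      rintro x (rfl | rfl)
      · exact ⟨a, hreal a ha ea, rfl⟩
      · exact ⟨b, hreal b hb eb, rfl⟩
    have d11 : 11 ∣ Nat.card N := by
      obtain ⟨-, -, -, -, -, -, -, y11, y1⟩ := prod_facts hLy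
      have : Fact (Nat.Prime 11) := ⟨by norm_num⟩
      rw [← hcard, ← orderOf_eq_prime y11 y1]
      exact Subgroup.orderOf_dvd_natCard M (hgP yWord fun k hk => word_le k (by tauto))
    have dA : 120960 ∣ Nat.card N := hA ▸ Subgroup.card_dvd_of_le hAN
    have d27 : 896 ∣ Nat.card N := (show 896 ∣ 120960 by norm_num).trans dA
    have e1 : 896 * 2187 ∣ Nat.card N := Nat.Coprime.mul_dvd_of_dvd_of_dvd (by norm_num) d27 d3
    have e2 : 896 * 2187 * 125 ∣ Nat.card N := Nat.Coprime.mul_dvd_of_dvd_of_dvd (by norm_num) e1 d5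
    have e3 : 896 * 2187 * 125 * 11 ∣ Nat.card N := Nat.Coprime.mul_dvd_of_dvd_of_dvd (by norm_num) e2 d11
    exact (show 896 * 2187 * 125 * 11 = 2694384000 by norm_num) ▸ e3
  have hC : Nat.card Cv = 2694384000 := by
    have hd := key ⊤ inferInstance (by rw [Subgroup.index_top]; exact odd_one) le_top
    rw [Subgroup.card_top] at hd
    have hlt := card_Cv_lt hLy
    obtain ⟨m, hm⟩ := hd
    have hpos : 0 < Nat.card Cv := Nat.card_pos
    rw [hm] at hlt hpos ⊢
    have : m = 1 := by omega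
    omega
  have hgen : ∀ N : Subgroup Cv, N.Normal → Odd N.index → Subgroup.centralizer ({t} : Set Cv) ≤ N → N = ⊤ := by
    intro N hN hodd hAN
    refine Subgroup.eq_top_of_card_eq N (Nat.dvd_antisymm (Subgroup.card_subgroup_dvd_card N) ?_)
    rw [hC]
    exact key N hN hodd hAN
  refine ⟨hvo, center_quotient (Subgroup.zpowers v) ?_ ?_ t (Subtype.ext T_sq)
    (fun e => T_ne (congrArg Subtype.val e)) a7 hta (Subtype.ext aT) hC hA hfull hsmall hgen⟩
  · rw [Nat.card_zpowers, ← Subgroup.orderOf_coe]; exact hvo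
  · refine Subgroup.zpowers_le.2 (Subgroup.mem_center_iff.2 fun g => Subtype.ext ?_)
    exact Subgroup.mem_centralizer_singleton_iff.1 g.2

end CfsgLib.Sporadic.CosetCert.LyThree
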