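import Cfsg.Agent.Lib.Sporadic.LyThree.Conj
import Cfsg.Agent.Lib.Sporadic.LyThree.Checks.Count
import Cfsg.Agent.Lib.Sporadic.LyThree.Generic
import Cfsg.Agent.Lib.Sporadic.LyCent.Fixed

/-!
# Few conjugates of the element of order three in the stabilisers of the classes
-/

set_option autoImplicit false
set_option maxRecDepth 100000

namespace CfsgLib.Sporadic.CosetCert.LyThree

open LyIndex LyG2Five LyCent PackedMatrix
open scoped Matrix

attribute [local instance] factPrimeFive

attribute [local irreducible] PackedMatrix.mul PackedMatrix.ok vimg wordM matAt mulIs get16 red dig scaleIs getN lineAt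

theorem x0_facts : orderOf x0 = 3 ∧ Matrix.trace (mE x0) = 0 := by
  have h := x_test
  simp only [xTest, Bool.and_eq_true, Bool.not_eq_true'] at h
  obtain ⟨⟨⟨h3, hne⟩, htr⟩, -⟩ := h
  have s2 : Stands (PackedMatrix.mul 5 14 (wordM wX) (wordM wX)) (x0 * x0) :=
    ⟨ok_mul (by norm_num) (by norm_num) stands_x0.1 _, by
      rw [map_mul, stands_x0.2]; exact (dec_mul (by norm_num) (by norm_num) stands_x0.1 stands_x0.1).symm⟩
  have e3 : x0 ^ 3 = 1 := by
    rw [pow_succ', pow_two]
    exact stands_eq (mulIs_spec stands_x0 s2 h3) stands_one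
  have e1 : x0 ≠ 1 := fun e => by
    have : wordM wX = one14 := md14_inj stands_x0.1 stands_one.1 (by rw [← stands_x0.2, ← stands_one.2, e])
    rw [this, eqList_refl] at hne
    exact Bool.false_ne_true hne.symm
  have : Fact (Nat.Prime 3) := ⟨Nat.prime_three⟩
  refine ⟨orderOf_eq_prime e3 e1, ?_⟩
  rw [stands_x0.2, Matrix.trace]
  have e : ∀ (L : List ℕ), (∑ r : Fin 14, ((dig (L.getD r 0) r : ℕ) : ZMod 5)) =
      ((((List.range 14).map fun r => dig (L.getD r 0) r).sum : ℕ) : ZMod 5) := by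
    intro L
    rw [← List.sum_toFinset _ List.nodup_range, List.toFinset_range, Nat.cast_sum, Finset.sum_range]
  show ∑ r : Fin 14, ((dig ((wordM wX).getD r 0) r : ℕ) : ZMod 5) = 0
  rw [e, ← ZMod.natCast_mod]
  rw [show (((List.range 14).map fun r => dig ((wordM wX).getD r 0) r).sum % 5) = 0 from Nat.eq_of_beq_eq_true htr]
  rfl

/-- The conjugates in a stabiliser. -/
def conjSet (i : ℕ) : Set E := {y | y ∈ stab i ∧ ∃ c : E, c⁻¹ * x0 * c = y}

theorem conj_facts {y : E} (h : ∃ c : E, c⁻¹ * x0 * c = y) : orderOf y = 3 ∧ Matrix.trace (mE y) = 0 := by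
  obtain ⟨c, rfl⟩ := h
  constructor
  · have e : orderOf (MulAut.conj c⁻¹ x0) = orderOf x0 :=
      orderOf_injective (MulAut.conj c⁻¹).toMonoidHom (MulAut.conj c⁻¹).injective x0
    rw [MulAut.conj_apply, inv_inv] at e
    rw [e]
    exact x0_facts.1
  · rw [map_mul, Matrix.trace_mul_comm, ← map_mul, mul_inv_cancel_left]
    exact x0_facts.2

theorem mod_zero (a : ℕ) (h : ((a : ℕ) : ZMod 5) = 0) : Nat.mod a 5 = 0 :=
  Nat.dvd_iff_mod_eq_zero.1 ((CharP.cast_eq_zero_iff (ZMod 5) 5 a).1 h)

theorem threeOne_complete {K T : List ℕ} {k u : E} (hK : Stands K k) (hT : Stands T u)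
    (h : ∃ c : E, c⁻¹ * x0 * c = k * u) : threeOne K T = true := by
  obtain ⟨ho, htr⟩ := conj_facts h
  unfold threeOne
  rw [Bool.and_eq_true]
  have h1 : red 5 14 1 = 1 := unit_row 0 (by norm_num)
  constructor
  · rw [Nat.beq_eq]
    refine eq_of_vec (red_vimg _ _) h1 ?_
    rw [vimg_spec (red_vimg _ _) hT.1, vimg_spec (red_vimg _ _) hK.1, vimg_spec (red_vimg _ _) hT.1,
      vimg_spec (red_vimg _ _) hK.1, vimg_spec (red_vimg _ _) hT.1, vimg_spec h1 hK.1, ← hK.2, ← hT.2]
    simp only [Matrix.vecMul_vecMul, ← map_mul]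
    have e : k * u * k * u * k * u = 1 := by
      have hp := pow_orderOf_eq_one (k * u)
      rw [ho] at hp
      rw [← hp, pow_succ, pow_two]
      group
    rw [e, map_one, Matrix.vecMul_one]
  · rw [Nat.beq_eq]
    refine mod_zero _ ?_
    rw [← List.sum_toFinset _ List.nodup_range, List.toFinset_range, Nat.cast_sum, Finset.sum_range, ← htr,
      map_mul, hK.2, hT.2, Matrix.trace]
    refine Finset.sum_congr rfl fun r _ => ?_
    have e := congrFun (vimg_spec (K := T) (row_of_ok hK.1 r.2) hT.1) r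
    have e' : vec (K.getD r 0) = (md14 K) r := rfl
    rw [e', ← Matrix.mul_apply_eq_vecMul] at e
    exact e

theorem count_three {i nK nT b B : ℕ} {K T : List (List (List ℕ))} {P Q : List (List (ℕ × ℕ))}
    {C Y D : List (List ℕ)} (hb : b < 3906) (hcard : Nat.card (stab i) ≤ nK * nT)
    (hK : treeOK i nK K P = true) (hT : treeOK i nT T Q = true) (hin : innerOK nK b K C = true)
    (hout : outerOK nT b T Y D = true) (hcnt : threeOK nK nT B K T = true) :
    Nat.card (conjSet i) ≤ B := by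
  classical
  choose k hk hks using tree_spec hK
  choose u hu hus using tree_spec hT
  simp only [innerOK, List.all_eq_true, Bool.and_eq_true, List.mem_range] at hin
  simp only [outerOK, List.all_eq_true, Bool.and_eq_true, List.mem_range] at hout
  let F : Fin nK × Fin nT → stab i := fun q =>
    ⟨k q.1 q.1.2 * u q.2 q.2.2, mul_mem (hk q.1 q.1.2) (hu q.2 q.2.2)⟩
  have hfix : ∀ l (hl : l < nK), k l hl ∈ lineStab b := fun l hl =>
    (on_self b).step hb hb (hks l hl) (hin l hl).1
  have hout' : ∀ j (hj : j < nT), get16 0 Y j < 3906 ∧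
      On (vec (lineAt b) ᵥ* mE (u j hj)) (get16 0 Y j) := fun j hj =>
    ⟨Nat.le_of_ble_eq_true (hout j hj).1.1,
      (on_self b).step hb (Nat.le_of_ble_eq_true (hout j hj).1.1) (hus j hj) (hout j hj).1.2⟩
  have hinj : Function.Injective F := by
    rintro ⟨⟨l, hl⟩, ⟨j, hj⟩⟩ ⟨⟨l', hl'⟩, ⟨j', hj'⟩⟩ e
    have e' : k l hl * u j hj = k l' hl' * u j' hj' := congrArg Subtype.val e
    have e'' : u j hj = ((k l hl)⁻¹ * k l' hl') * u j' hj' := by rw [mul_assoc, ← e']; group
    have h1 : On (vec (lineAt b) ᵥ* mE (u j hj)) (get16 0 Y j') := by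
      rw [e'', map_mul, ← Matrix.vecMul_vecMul]
      exact On.act (mul_mem (inv_mem (hfix l hl)) (hfix l' hl')) (on_self b) _ (hout' j' hj').2
    have hY := On.unique (hout' j hj).1 (hout' j' hj').1 (hout' j hj).2 h1
    obtain rfl : j = j' := by
      rcases lt_trichotomy j j' with h | h | h
      · exact absurd hY (beq_false_ne ((hout j' hj').2 j h))
      · exact h
      · exact absurd hY.symm (beq_false_ne ((hout j hj).2 j' h))
    have hkk : k l hl = k l' hl' := mul_right_cancel e'
    obtain rfl : l = l' := by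
      have hm : matAt K l = matAt K l' := md14_inj (hks l hl).1 (hks l' hl').1
        (by rw [← (hks l hl).2, ← (hks l' hl').2, hkk])
      rcases lt_trichotomy l l' with h | h | h
      · have := (hin l' hl').2 l h
        rw [hm, eqList_refl] at this
        exact absurd this (by decide)
      · exact h
      · have := (hin l hl).2 l' h
        rw [hm, eqList_refl] at this
        exact absurd this (by decide)
    rfl
  have hsurj : Function.Surjective F :=
    (hinj.bijective_of_nat_card_le (by simpa [Nat.card_prod] using hcard)).2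
  choose q hq using hsurj
  let Z := {q : Fin nK × Fin nT // threeOne (matAt K q.1) (matAt T q.2) = true}
  have hle : Nat.card (conjSet i) ≤ Nat.card Z := by
    refine Nat.card_le_card_of_injective (fun x => (⟨q ⟨x.1, x.2.1⟩, ?_⟩ : Z)) ?_
    · refine threeOne_complete (hks _ (q ⟨x.1, x.2.1⟩).1.2) (hus _ (q ⟨x.1, x.2.1⟩).2.2) ?_
      have e := congrArg Subtype.val (hq ⟨x.1, x.2.1⟩)
      change k _ _ * u _ _ = x.1 at e
      rw [e]
      exact x.2.2
    · intro x y e
      have e1 : q ⟨x.1, x.2.1⟩ = q ⟨y.1, y.2.1⟩ := congrArg Subtype.val e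
      have e2 : (⟨x.1, x.2.1⟩ : stab i) = ⟨y.1, y.2.1⟩ := (hq _).symm.trans ((congrArg F e1).trans (hq _))
      exact Subtype.ext (Subtype.mk.inj e2)
  refine hle.trans (le_trans (le_of_eq ?_) (Nat.le_of_ble_eq_true hcnt))
  rw [Nat.card_congr (Equiv.subtypeProdEquivSigmaSubtype fun (a : Fin nK) (b : Fin nT) =>
    threeOne (matAt K a) (matAt T b) = true), Nat.card_sigma]
  calc ∑ a : Fin nK, Nat.card {b : Fin nT // threeOne (matAt K a) (matAt T b) = true}
      = ∑ a : Fin nK, (List.range nT).countP (fun j => threeOne (matAt K a) (matAt T j)) :=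
        Finset.sum_congr rfl fun a _ => card_countP nT fun j => threeOne (matAt K a) (matAt T j)
    _ = _ := Fin.sum_univ_eq_sum_range (fun l => (List.range nT).countP fun j => threeOne (matAt K l) (matAt T j)) nK

theorem wordS_spec : ∀ (L : List ℕ), (L.all fun i => Nat.blt i 13) = true →
    ∃ k ∈ stab 1, Stands (wordS L) k := by
  have gen : ∀ (L : List ℕ), (L.all fun i => Nat.blt i 13) = true → ∀ (acc : List ℕ) (a : E), a ∈ stab 1 →
      Stands acc a → ∃ k ∈ stab 1,
        Stands (L.foldl (fun acc i => PackedMatrix.mul 5 14 acc (matAt m1_Tab i)) acc) k := by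
    intro L
    induction L with
    | nil => intro _ acc a ha hs; exact ⟨a, ha, hs⟩
    | cons x t ih =>
      intro h acc a ha hs
      rw [List.all_cons, Bool.and_eq_true] at h
      obtain ⟨g, hg, hgs⟩ := tree_spec tree1 x (Nat.le_of_ble_eq_true h.1)
      exact ih h.2 _ (a * g) (mul_mem ha hg) ⟨ok_mul (by norm_num) (by norm_num) hs.1 _, by
        rw [map_mul, hs.2, hgs.2]; exact (dec_mul (by norm_num) (by norm_num) hs.1 hgs.1).symm⟩
  exact fun L h => gen L h one14 1 (one_mem _) stands_one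

theorem comm_spec {A B : List ℕ} {a b : E} (ha : Stands A a) (hb : Stands B b) (h : commChk A B = true) :
    a * b = b * a := by
  have s : ∀ {A B : List ℕ} {a b : E}, Stands A a → Stands B b → Stands (PackedMatrix.mul 5 14 A B) (a * b) :=
    fun {A B a b} ha hb => ⟨ok_mul (by norm_num) (by norm_num) ha.1 _, by
      rw [map_mul, ha.2, hb.2]; exact (dec_mul (by norm_num) (by norm_num) ha.1 hb.1).symm⟩
  exact stands_eq (s ha hb) (eqList_spec _ _ h ▸ s hb ha)

theorem orbit_div {Pt : List (List ℕ)} {Par : List (List (ℕ × ℕ))} {Sc : List (List (List ℕ))}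
    {Gs : List (List ℕ)} {N : ℕ} (hN : 0 < N) (h : ∀ t < N, orbOne N Pt Par Sc Gs t = true)
    (g : Fin Gs.length → E) (hg : ∀ s, Stands (Gs.get s) (g s)) :
    N ∣ Nat.card (Subgroup.closure (Set.range g)) := by
  have h' : ∀ t < N, _ := fun t ht => by
    have := h t ht
    simp only [orbOne, Bool.and_eq_true, List.all_eq_true, List.mem_range, Bool.or_eq_true] at this
    exact this
  have getG : ∀ s (hs : s < Gs.length), Stands (Gs.getD s []) (g ⟨s, hs⟩) := fun s hs => by
    rw [List.getD_eq_getElem _ _ hs]; exact hg ⟨s, hs⟩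
  have hred : ∀ t : Fin N, red 5 14 (get16 0 Pt t) = get16 0 Pt t := fun t =>
    Nat.eq_of_beq_eq_true (h' t t.2).1.2
  have := orbit_dvd (fun (p : V14) (a : E) => p ᵥ* mE a) (fun p => by show p ᵥ* mE 1 = p; rw [map_one, Matrix.vecMul_one])
    (fun p a b => by show p ᵥ* mE (a * b) = p ᵥ* mE a ᵥ* mE b; rw [map_mul, Matrix.vecMul_vecMul])
    (Set.range g) (vec (get16 0 Pt 0)) (fun t : Fin N => vec (get16 0 Pt t)) ?_ ⟨⟨0, hN⟩, rfl⟩ ?_ ?_ ⊥ bot_le ?_
  · rwa [Subgroup.card_bot, mul_one] at this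
  · intro t s e
    have e' := eq_of_vec (hred t) (hred s) e
    rcases lt_trichotomy (t : ℕ) s with hl | hl | hl
    · exact absurd e' (beq_false_ne ((h' s s.2).2 t hl))
    · exact Fin.ext hl
    · exact absurd e'.symm (beq_false_ne ((h' t t.2).2 s hl))
  · intro t
    obtain ⟨t, ht⟩ := t
    induction t using Nat.strong_induction_on with
    | _ t ih =>
      rcases (h' t ht).1.1.1 with h0 | ⟨⟨hp, hs⟩, hb⟩
      · obtain rfl := Nat.eq_of_beq_eq_true h0
        exact ⟨1, one_mem _, by show _ ᵥ* mE 1 = _; rw [map_one, Matrix.vecMul_one]⟩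
      · have hp' := Nat.le_of_ble_eq_true hp
        obtain ⟨a, ha, hae⟩ := ih _ hp' (lt_trans hp' ht)
        have hG := getG _ (Nat.le_of_ble_eq_true hs)
        refine ⟨a * g _, mul_mem ha (Subgroup.subset_closure ⟨⟨_, Nat.le_of_ble_eq_true hs⟩, rfl⟩), ?_⟩
        show _ ᵥ* mE (_ * _) = _
        rw [map_mul, ← Matrix.vecMul_vecMul]
        change _ ᵥ* mE a = _ at hae
        rw [hae, hG.2, ← vimg_spec (hred ⟨_, lt_trans hp' ht⟩) hG.1, Nat.eq_of_beq_eq_true hb]
  · rintro _ ⟨s, rfl⟩ t
    obtain ⟨hlt, hb⟩ := (h' t t.2).1.1.2 s s.2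
    refine ⟨⟨_, Nat.le_of_ble_eq_true hlt⟩, ?_⟩
    show _ ᵥ* mE _ = _
    rw [(getG s s.2).2, ← vimg_spec (hred t) (getG s s.2).1, Nat.eq_of_beq_eq_true hb]
  · intro k hk
    rw [Subgroup.mem_bot] at hk
    show _ ᵥ* mE k = _
    rw [hk, map_one, Matrix.vecMul_one]

theorem class_one_bound (h : Hs.index = 8835156) : Nat.card (conjSet 1) ≤ 800 := by
  classical
  have hcard : Nat.card (stab 1) = 300000 := stab_card h (by norm_num)
  have hs := small_chk
  simp only [smallOK, Bool.and_eq_true, Bool.not_eq_true'] at hs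
  obtain ⟨⟨⟨⟨⟨⟨⟨⟨⟨⟨w1, w2⟩, w3⟩, w4⟩, cgh⟩, cga⟩, cgb⟩, g1⟩, h1⟩, g3⟩, h2⟩ := hs
  obtain ⟨g, hg, sg⟩ := wordS_spec sgW w1
  obtain ⟨hh, hhm, sh⟩ := wordS_spec shW w2
  obtain ⟨a, ha, sa⟩ := wordS_spec saW w3
  obtain ⟨b, hb, sb⟩ := wordS_spec sbW w4
  have ne1 : ∀ {A : List ℕ} {k : E}, Stands A k → eqList A one14 = false → k ≠ 1 := fun {A k} hA hne e => by
    have : A = one14 := md14_inj hA.1 stands_one.1 (by rw [← hA.2, ← stands_one.2, e])
    rw [this, eqList_refl] at hne
    exact Bool.false_ne_true hne.symm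
  have : Fact (Nat.Prime 3) := ⟨Nat.prime_three⟩
  have : Fact (Nat.Prime 2) := ⟨Nat.prime_two⟩
  have hgo : orderOf g = 3 := by
    refine orderOf_eq_prime ?_ (ne1 sg g1)
    rw [pow_succ', pow_two]
    exact stands_eq (mulIs_spec sg ⟨ok_mul (by norm_num) (by norm_num) sg.1 _, by
      rw [map_mul, sg.2]; exact (dec_mul (by norm_num) (by norm_num) sg.1 sg.1).symm⟩ g3) stands_one
  have hho : orderOf hh = 2 := by
    refine orderOf_eq_prime ?_ (ne1 sh h1)
    rw [pow_two]
    exact stands_eq (mulIs_spec sh sh h2) stands_one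
  set Cg := stab 1 ⊓ Subgroup.centralizer ({g} : Set E) with hCg
  have mem : ∀ {k : E}, k ∈ stab 1 → g * k = k * g → k ∈ Cg := fun hk e =>
    ⟨hk, Subgroup.mem_centralizer_singleton_iff.2 e.symm⟩
  have d3 : 3 ∣ Nat.card Cg := by
    have := orderOf_dvd_natCard (⟨g, mem hg rfl⟩ : Cg)
    rwa [← Subgroup.orderOf_coe, hgo] at this
  have d2 : 2 ∣ Nat.card Cg := by
    have := orderOf_dvd_natCard (⟨hh, mem hhm (comm_spec sg sh cgh)⟩ : Cg)
    rwa [← Subgroup.orderOf_coe, hho] at this
  have d125 : 125 ∣ Nat.card Cg := by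
    let gs : Fin [wordS saW, wordS sbW].length → E := fun s => if (s : ℕ) = 0 then a else b
    refine (orbit_div (by norm_num) orb_small gs fun s => ?_).trans (Subgroup.card_dvd_of_le ?_)
    · obtain ⟨s, hs⟩ := s
      simp only [List.length_cons, List.length_nil] at hs
      interval_cases s
      · exact sa
      · exact sb
    · rw [Subgroup.closure_le]
      rintro _ ⟨s, rfl⟩
      show gs s ∈ Cg
      simp only [gs]
      split
      · exact mem ha (comm_spec sg sa cga)
      · exact mem hb (comm_spec sg sb cgb)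
  have d750 : 750 ∣ Nat.card Cg := by
    have h6 : 6 ∣ Nat.card Cg := Nat.Coprime.mul_dvd_of_dvd_of_dvd (by norm_num : Nat.Coprime 2 3) d2 d3
    exact Nat.Coprime.mul_dvd_of_dvd_of_dvd (by norm_num : Nat.Coprime 6 125) h6 d125
  let g' : stab 1 := ⟨g, hg⟩
  have hgo' : orderOf g' = 3 := by rw [← Subgroup.orderOf_coe]; exact hgo
  have hle : Nat.card Cg ≤ Nat.card (Subgroup.centralizer ({g'} : Set (stab 1))) :=
    Nat.card_le_card_of_injective (fun k => ⟨⟨k.1, k.2.1⟩, Subgroup.mem_centralizer_singleton_iff.2 (Subtype.ext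
      (Subgroup.mem_centralizer_singleton_iff.1 k.2.2))⟩) fun k l e =>
      Subtype.ext (congrArg (fun v : Subgroup.centralizer ({g'} : Set (stab 1)) => ((v : stab 1) : E)) e)
  have hfac : (Nat.card (stab 1)).factorization 3 = 1 := by
    rw [hcard, show (300000 : ℕ) = 3 ^ 1 * 100000 by norm_num, Nat.factorization_mul (by norm_num) (by norm_num),
      Finsupp.add_apply, Nat.factorization_eq_zero_of_not_dvd (show ¬ 3 ∣ 100000 by norm_num)]
    simp [Nat.Prime.factorization_self Nat.prime_three]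
  have hb' := three_class_bound hfac g' hgo'
  have hidx := (Subgroup.centralizer ({g'} : Set (stab 1))).index_mul_card
  rw [hcard] at hidx
  have h750 : 750 ≤ Nat.card (Subgroup.centralizer ({g'} : Set (stab 1))) :=
    (Nat.le_of_dvd Nat.card_pos d750).trans hle
  have hi : (Subgroup.centralizer ({g'} : Set (stab 1))).index ≤ 400 := by
    by_contra hlt
    have := Nat.mul_le_mul (Nat.not_le.1 hlt) h750
    omega
  have he : Nat.card (conjSet 1) ≤ Nat.card {y : stab 1 // orderOf y = 3} :=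
    Nat.card_le_card_of_injective (fun y => ⟨⟨y.1, y.2.1⟩, by
      rw [← Subgroup.orderOf_coe]; exact (conj_facts y.2.2).1⟩) fun x y e =>
      Subtype.ext (congrArg (fun v : {y : stab 1 // orderOf y = 3} => (v.1 : E)) e)
  omega

end CfsgLib.Sporadic.CosetCert.LyThree
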