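import Cfsg.Agent.Lib.Sporadic.LyThree.Fixed
import Cfsg.Agent.Lib.Sporadic.LyThree.Elements

/-!
# The centraliser of the element of order three, seen from its conjugate in G₂(5)
-/

set_option autoImplicit false
set_option maxRecDepth 100000

namespace CfsgLib.Sporadic.CosetCert.LyThree

open LyIndex LyG2Five LyCent

attribute [local instance] factPrimeFive

attribute [local irreducible] rep vv

/-- The centraliser. -/
noncomputable abbrev Cv : Subgroup LyP := Subgroup.centralizer ({V0} : Set LyP)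

/-- The conjugating element. -/
noncomputable def cg : LyP := aG [16, 0, 8, 4]

theorem conj_eq (hLy : Cfsg.IsLy LyP) : gE x0 = cg * V0 * cg⁻¹ := by
  have h1 : gE x0 = aG xWord := by
    rw [x0, gE_wordE (L := wX) (by decide)]
    simp [wX, xWord, aG, atomG]
  rw [h1, (small_facts hLy).1]
  simp [xConj, cg, aG, atomG, V0, mul_assoc]

/-- Conjugation back to the element. -/
noncomputable def back3 : LyP ≃* LyP := MulAut.conj cg⁻¹

theorem back3_x0 (hLy : Cfsg.IsLy LyP) : back3 (gE x0) = V0 := by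
  rw [conj_eq hLy, back3, MulAut.conj_apply]
  group

theorem back3_mem (hLy : Cfsg.IsLy LyP) {e : E} (he : x0 * e = e * x0) : back3 (gE e) ∈ Cv := by
  refine Subgroup.mem_centralizer_singleton_iff.2 ?_
  rw [← back3_x0 hLy, ← map_mul, ← map_mul, ← map_mul, ← map_mul, he]

theorem card_Cv_lt (hLy : Cfsg.IsLy LyP) : Nat.card Cv < 5388768000 := by
  have := finite_LyP hLy
  refine lt_of_le_of_lt ?_ (card_centralizer_lt (index_Hs hLy))
  refine Nat.card_le_card_of_injective (fun c => ⟨back3.symm c.1, Subgroup.mem_centralizer_singleton_iff.2 ?_⟩)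
    fun c d e => Subtype.ext (back3.symm.injective (congrArg Subtype.val e))
  apply back3.injective
  rw [map_mul, map_mul, back3.apply_symm_apply, back3_x0 hLy]
  exact Subgroup.mem_centralizer_singleton_iff.1 c.2

/-- Two elements generating a subgroup of order divisible by 125, each inverted inside the centraliser. -/
theorem five_Cv (hLy : Cfsg.IsLy LyP) : ∃ a b ha hb : Cv, ha * a * ha⁻¹ = a⁻¹ ∧ hb * b * hb⁻¹ = b⁻¹ ∧
    125 ∣ Nat.card (Subgroup.closure ({(a : LyP), (b : LyP)} : Set LyP)) := by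
  obtain ⟨a, b, ha, hb, ca, cb, cha, chb, ra, rb, hd⟩ := exists_five
  let φ : E →* LyP := back3.toMonoidHom.comp gE
  refine ⟨⟨φ a, back3_mem hLy ca⟩, ⟨φ b, back3_mem hLy cb⟩, ⟨φ ha, back3_mem hLy cha⟩, ⟨φ hb, back3_mem hLy chb⟩,
    Subtype.ext ?_, Subtype.ext ?_, ?_⟩
  · show φ ha * φ a * (φ ha)⁻¹ = (φ a)⁻¹
    rw [← map_inv, ← map_mul, ← map_mul, ra, map_inv]
  · show φ hb * φ b * (φ hb)⁻¹ = (φ b)⁻¹
    rw [← map_inv, ← map_mul, ← map_mul, rb, map_inv]
  · have e : (Subgroup.closure ({a, b} : Set E)).map φ = Subgroup.closure ({φ a, φ b} : Set LyP) := by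
      rw [MonoidHom.map_closure, Set.image_pair]
    show 125 ∣ Nat.card (Subgroup.closure ({φ a, φ b} : Set LyP))
    rw [← e, Subgroup.card_map_of_injective (f := φ) (back3.injective.comp gE_injective)]
    exact hd

end CfsgLib.Sporadic.CosetCert.LyThree
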